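import Mathlib.GroupTheory.Sylow
import Mathlib.GroupTheory.SpecificGroups.Cyclic
import Mathlib.GroupTheory.OrderOfElement

/-!
# Cyclic 2-subgroups that are TI

Owner: helper68.
-/

set_option autoImplicit false
set_option linter.style.haveILetI false
set_option linter.unusedSectionVars false

namespace Cfsg.Agent.Lib.TICyclic68

open Subgroup

variable {G : Type*} [Group G]

/-- An element centralising a non-trivial element of a cyclic 2-subgroup normalises it. -/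
def TI2 (G : Type*) [Group G] : Prop :=
  ∀ x g : G, (∃ k, x ^ 2 ^ k = 1) → ∀ w ∈ zpowers x, w ≠ 1 → g * w = w * g →
    g * x * g⁻¹ ∈ zpowers x

/-- The TI condition on the cyclic subgroups of prime power order gives the predicate. -/
theorem ti2_of_ti
    (h : ∀ H : Subgroup G, IsCyclic H → IsPrimePow (Nat.card H) → ∀ g : G,
      H.map (MulAut.conj g).toMonoidHom = H ∨ H.map (MulAut.conj g).toMonoidHom ⊓ H = ⊥) :
    TI2 G := by
  intro x g ⟨k, hk⟩ w hw hw1 hg
  obtain ⟨i, -, hi⟩ := (Nat.dvd_prime_pow Nat.prime_two).1 (orderOf_dvd_of_pow_eq_one hk)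
  have hpp : IsPrimePow (Nat.card (zpowers x)) := by
    rw [Nat.card_zpowers, hi]
    refine Nat.prime_two.isPrimePow.pow fun e => hw1 ?_
    rw [e, pow_zero, orderOf_eq_one_iff] at hi
    rw [hi, zpowers_one_eq_bot] at hw
    exact mem_bot.1 hw
  rcases h (zpowers x) inferInstance hpp g with e | e
  · exact e ▸ ⟨x, mem_zpowers x, rfl⟩
  · refine absurd (mem_bot.1 (e ▸ mem_inf.2 ⟨⟨w, hw, ?_⟩, hw⟩)) hw1
    show g * w * g⁻¹ = w
    rw [hg, mul_inv_cancel_right]

theorem TI2.subgroup (h : TI2 G) (H : Subgroup G) : TI2 ↥H := by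
  rintro x g ⟨k, hk⟩ w hw hw1 hg
  obtain ⟨i, hi⟩ := mem_zpowers_iff.1 hw
  obtain ⟨j, hj⟩ := mem_zpowers_iff.1 (h (x : G) g
    ⟨k, by rw [← Subgroup.coe_pow, hk, Subgroup.coe_one]⟩ (w : G)
    (mem_zpowers_iff.2 ⟨i, by rw [← Subgroup.coe_zpow, hi]⟩)
    (fun e => hw1 (Subtype.ext e)) (congrArg Subtype.val hg))
  exact mem_zpowers_iff.2 ⟨j, Subtype.ext (by simpa using hj)⟩

/-- `x` has order four and square `a`. -/
def Root (a x : G) : Prop := x * x = a ∧ a * a = 1 ∧ a ≠ 1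

namespace Root

variable {a x : G} (r : Root a x)

include r

theorem orderOf : orderOf x = 4 := by
  obtain ⟨rfl, h2, h1⟩ := r
  have := orderOf_eq_prime_pow (p := 2) (n := 1) (x := x) (by rw [pow_one, pow_two]; exact h1)
    (by rw [show 2 ^ (1 + 1) = 2 + 2 by norm_num, pow_add, pow_two]; exact h2)
  simpa using this

theorem ne_one : x ≠ 1 := fun e => r.2.2 (by rw [← r.1, e, mul_one])

theorem sq_inv : x⁻¹ = x * a := by
  refine inv_eq_of_mul_eq_one_right ?_
  rw [← mul_assoc, r.1, r.2.1]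

theorem mem : a ∈ zpowers x := by
  rw [← r.1]; exact mul_mem (mem_zpowers x) (mem_zpowers x)

theorem two_pow : ∃ k, x ^ 2 ^ k = 1 := ⟨2, by
  rw [show 2 ^ 2 = 2 + 2 by norm_num, pow_add, pow_two, r.1, r.2.1]⟩

theorem comm_sq : Commute x a := by rw [← r.1]; exact (Commute.refl x).mul_right (Commute.refl x)

theorem conj (g : G) : Root (g * a * g⁻¹) (g * x * g⁻¹) :=
  ⟨by rw [← r.1]; group, by
    rw [show g * a * g⁻¹ * (g * a * g⁻¹) = g * (a * a) * g⁻¹ by group, r.2.1, mul_one, mul_inv_cancel],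
    fun e => r.2.2 (conj_eq_one_iff.1 e)⟩

theorem inv : Root a x⁻¹ := ⟨by
  rw [← mul_inv_rev, r.1]; exact inv_eq_of_mul_eq_one_right r.2.1, r.2.1, r.2.2⟩

/-- An element centralising `a` centralises or inverts `x`. -/
theorem cases (hG : TI2 G) {g : G} (hg : g * a = a * g) :
    g * x * g⁻¹ = x ∨ g * x * g⁻¹ = x⁻¹ := by
  obtain ⟨i, hi⟩ := mem_zpowers_iff.1 (hG x g r.two_pow a r.mem r.2.2 hg)
  rw [← zpow_mod_orderOf, r.orderOf] at hi
  have h4 : i % ((4 : ℕ) : ℤ) = 0 ∨ i % ((4 : ℕ) : ℤ) = 1 ∨ i % ((4 : ℕ) : ℤ) = 2 ∨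
      i % ((4 : ℕ) : ℤ) = 3 := by omega
  rcases h4 with e | e | e | e <;> rw [e] at hi
  · rw [zpow_zero] at hi
    exact absurd (conj_eq_one_iff.1 hi.symm) r.ne_one
  · exact Or.inl (by rw [zpow_one] at hi; exact hi.symm)
  · exfalso
    rw [zpow_two, r.1] at hi
    refine r.ne_one ?_
    have h2 : g * (x * x) * g⁻¹ = 1 := by
      rw [show g * (x * x) * g⁻¹ = (g * x * g⁻¹) * (g * x * g⁻¹) by group, ← hi, r.2.1]
    rw [conj_eq_one_iff, r.1] at h2
    exact absurd h2 r.2.2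
  · refine Or.inr (hi.symm.trans ?_)
    rw [r.sq_inv, show (3 : ℤ) = 1 + 2 by norm_num, zpow_add, zpow_one, zpow_two, r.1]

end Root

/-- The power of order four of a 2-element of order at least four. -/
theorem exists_root {g : G} {k : ℕ} (hk : orderOf g = 2 ^ (k + 2)) :
    Root (g ^ 2 ^ (k + 1)) (g ^ 2 ^ k) := by
  refine ⟨by rw [← pow_add]; ring_nf, ?_, ?_⟩
  · rw [← pow_add, show 2 ^ (k + 1) + 2 ^ (k + 1) = 2 ^ (k + 2) by ring, ← hk, pow_orderOf_eq_one]
  · exact pow_ne_one_of_lt_orderOf (by positivity)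
      (by rw [hk]; exact Nat.pow_lt_pow_right (by norm_num) (by omega))

/-- A 2-element whose square is not one has order at least four. -/
theorem exists_order {g : G} (hp : ∃ k, g ^ 2 ^ k = 1) (h : g * g ≠ 1) :
    ∃ k, orderOf g = 2 ^ (k + 2) := by
  obtain ⟨k, hk⟩ := hp
  obtain ⟨i, -, hi⟩ := (Nat.dvd_prime_pow Nat.prime_two).1 (orderOf_dvd_of_pow_eq_one hk)
  rcases i with _ | _ | i
  · exact absurd (by rw [pow_zero, orderOf_eq_one_iff] at hi; rw [hi, mul_one]) h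
  · refine absurd ?_ h
    rw [← pow_two, show (2 : ℕ) = 2 ^ (0 + 1) by norm_num, ← hi, pow_orderOf_eq_one]
  · exact ⟨i, hi⟩

end Cfsg.Agent.Lib.TICyclic68
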