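import Mathlib
import Cfsg.Agent.Lib.Linear.SL2
import Cfsg.Agent.Lib.RecogThree.J1Orders
import Cfsg.Prelude.Def_Spor_J1

/-!
# `PSL(2,q)` and `J₁` have TI cyclic subgroups of prime power order

Owner: helper68.
-/

set_option autoImplicit false
set_option linter.style.haveILetI false
set_option linter.unusedSectionVars false

namespace Cfsg.Agent.Lib.TICyclic68

open Subgroup

/-- All cyclic subgroups of prime power order are TI. -/
def TIP (G : Type*) [Group G] : Prop :=
  ∀ H : Subgroup G, IsCyclic H → IsPrimePow (Nat.card H) → ∀ g : G,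
    H.map (MulAut.conj g).toMonoidHom = H ∨ H.map (MulAut.conj g).toMonoidHom ⊓ H = ⊥

/-- It suffices to treat the elements of non-prime order. -/
theorem tip_of {G : Type*} [Group G] [Finite G]
    (h : ∀ x y w : G, orderOf y = orderOf x → IsPrimePow (orderOf x) → ¬ (orderOf x).Prime →
      w ∈ zpowers x → w ∈ zpowers y → w ≠ 1 → zpowers x = zpowers y) : TIP G := by
  intro H hH hpp g
  obtain ⟨x, rfl⟩ := H.isCyclic_iff_exists_zpowers_eq_top.1 hH
  rw [Nat.card_zpowers] at hpp
  rw [MonoidHom.map_zpowers]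
  set y := (MulAut.conj g).toMonoidHom x
  have hy : orderOf y = orderOf x := orderOf_injective _ (MulAut.conj g).injective x
  by_cases hne : zpowers y ⊓ zpowers x = ⊥
  · exact Or.inr hne
  left
  by_cases hp : (orderOf x).Prime
  · haveI : Fact (orderOf x).Prime := ⟨hp⟩
    have hcx : Nat.card (zpowers x) = orderOf x := Nat.card_zpowers x
    have e : zpowers y ⊓ zpowers x = zpowers x := by
      rcases ((Subgroup.card_dvd_of_le (inf_le_right : zpowers y ⊓ zpowers x ≤ zpowers x)).trans
        hcx.dvd |> (Nat.dvd_prime hp).1) with e | e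
      · exact absurd (Subgroup.card_eq_one.1 e) hne
      · exact Subgroup.eq_of_le_of_card_ge inf_le_right (by rw [e, hcx])
    exact (Subgroup.eq_of_le_of_card_ge (inf_eq_right.1 e) (by rw [hcx, Nat.card_zpowers, hy])).symm
  · obtain ⟨⟨w, hw⟩, hv⟩ := Subgroup.ne_bot_iff_exists_ne_one.1 hne
    have hw1 : w ≠ 1 := fun e => hv (Subtype.ext e)
    exact (h x y w hy hpp hp hw.2 hw.1 hw1).symm

/-- In a cyclic group two elements of the same order generate the same subgroup. -/
theorem zpowers_eq_of_cyclic {G : Type*} [Group G] [Finite G] (K : Subgroup G) [IsCyclic K]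
    {x y : G} (hx : x ∈ K) (hy : y ∈ K) (ho : orderOf y = orderOf x) : zpowers x = zpowers y := by
  classical
  haveI := Fintype.ofFinite K
  refine Subgroup.eq_of_le_of_card_ge (zpowers_le.2 ?_) (by rw [Nat.card_zpowers, Nat.card_zpowers, ho])
  set x' : K := ⟨x, hx⟩
  set y' : K := ⟨y, hy⟩
  set n := orderOf x
  have hn : orderOf y' = n := by rw [Subgroup.orderOf_mk]; exact ho
  have hsub : (Finset.univ.filter fun a : K => a ∈ zpowers y') ⊆
      Finset.univ.filter fun a : K => a ^ n = 1 := by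
    intro a ha
    obtain ⟨i, rfl⟩ := mem_zpowers_iff.1 (Finset.mem_filter.1 ha).2
    refine Finset.mem_filter.2 ⟨Finset.mem_univ _, ?_⟩
    rw [← zpow_natCast, ← zpow_mul, mul_comm, zpow_mul, zpow_natCast, ← hn, pow_orderOf_eq_one,
      one_zpow]
  have hcard : (Finset.univ.filter fun a : K => a ∈ zpowers y').card = n := by
    rw [← hn, ← Nat.card_zpowers, Nat.card_eq_fintype_card, Fintype.card_subtype]
  have hxn : x' ^ n = 1 := Subtype.ext (pow_orderOf_eq_one x)
  have heq := Finset.eq_of_subset_of_card_le hsub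
    ((IsCyclic.card_pow_eq_one_le (orderOf_pos x)).trans hcard.ge)
  have : x' ∈ zpowers y' := (Finset.mem_filter.1 (heq.symm ▸
    Finset.mem_filter.2 ⟨Finset.mem_univ x', hxn⟩ : x' ∈ _)).2
  obtain ⟨i, hi⟩ := mem_zpowers_iff.1 this
  exact mem_zpowers_iff.2 ⟨i, congrArg Subtype.val hi⟩

section Two

variable {F : Type} [Field F] [Fintype F]

local notation "SL2" => Matrix.SpecialLinearGroup (Fin 2) F
local notation "PSL2" => Matrix.ProjectiveSpecialLinearGroup (Fin 2) F

theorem center_sq {z : SL2} (hz : z ∈ center SL2) : z ^ 2 = 1 := by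
  obtain ⟨r, hr, e⟩ := Matrix.SpecialLinearGroup.mem_center_iff.1 hz
  apply Subtype.ext
  rw [Matrix.SpecialLinearGroup.coe_pow, ← e, ← map_pow]
  simp only [Fintype.card_fin] at hr
  rw [hr, map_one, Matrix.SpecialLinearGroup.coe_one]

theorem sq_eq_one_of_pow_four [CharP F 2] {X : SL2} (h : X ^ 4 = 1) : X ^ 2 = 1 := by
  have h2 : (2 : F) = 0 := CharP.cast_eq_zero F 2
  have hdet := Linear.sl2_det X
  set M := (X : Matrix (Fin 2) (Fin 2) F) with hM
  have htr : ∀ {Y : SL2}, Y * Y = 1 → Matrix.trace (Y : Matrix (Fin 2) (Fin 2) F) = 0 := by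
    intro Y hY
    have e := Linear.sl2_mul_self Y
    rw [show (Y : Matrix (Fin 2) (Fin 2) F) * Y = 1 from congrArg Subtype.val hY, eq_comm,
      sub_eq_iff_eq_add] at e
    by_contra ht
    have e2 : (1 : Matrix (Fin 2) (Fin 2) F) + 1 = 0 := by
      rw [← two_smul F (1 : Matrix (Fin 2) (Fin 2) F), h2, zero_smul]
    rw [e2] at e
    have hY0 : (Y : Matrix (Fin 2) (Fin 2) F) = 0 := (smul_eq_zero.1 e).resolve_left ht
    have hd := Y.2
    rw [hY0, Matrix.det_zero] at hd
    exact zero_ne_one hd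
  have t2 := htr (Y := X * X) (by rw [← mul_assoc]; simpa [pow_succ] using h)
  rw [Matrix.SpecialLinearGroup.coe_mul, Linear.sl2_mul_self, Matrix.trace_sub, Matrix.trace_smul,
    Matrix.trace_one, Fintype.card_fin, Nat.cast_ofNat, h2, sub_zero, smul_eq_mul] at t2
  have t1 : Matrix.trace M = 0 := mul_self_eq_zero.1 t2
  apply Subtype.ext
  rw [Matrix.SpecialLinearGroup.coe_pow, pow_two, Linear.sl2_mul_self, ← hM, t1, zero_smul, zero_sub,
    Matrix.SpecialLinearGroup.coe_one, neg_eq_iff_add_eq_zero,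
    ← two_smul F (1 : Matrix (Fin 2) (Fin 2) F), h2, zero_smul]

/-- `PSL(2,q)` has TI cyclic subgroups of prime power order. -/
theorem tip_psl : TIP PSL2 := by
  classical
  obtain ⟨p, hcp⟩ := CharP.exists F
  obtain ⟨f, hp, hq⟩ := FiniteField.card F p
  haveI : Fact p.Prime := ⟨hp⟩
  refine tip_of fun x y w ho hpp hnp hwx hwy hw1 => ?_
  let π : SL2 →* PSL2 := QuotientGroup.mk' (center SL2)
  have hπ : ∀ g : SL2, π g = 1 ↔ g ∈ center SL2 := fun g => QuotientGroup.eq_one_iff g
  obtain ⟨X, rfl⟩ : ∃ X, π X = x := QuotientGroup.mk'_surjective _ x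
  obtain ⟨Y, rfl⟩ : ∃ Y, π Y = y := QuotientGroup.mk'_surjective _ y
  obtain ⟨i, rfl⟩ := mem_zpowers_iff.1 hwx
  obtain ⟨j, hj⟩ := mem_zpowers_iff.1 hwy
  obtain ⟨r, k, hr, hk, hrk⟩ := (isPrimePow_nat_iff _).1 hpp
  have hk2 : 2 ≤ k := by
    rcases k with _ | _ | k
    · omega
    · rw [pow_one] at hrk; exact absurd (hrk ▸ hr) hnp
    · omega
  -- `r` is not the characteristic
  have hrp : r ≠ p := by
    rintro rfl
    have hdvd : r ^ k ∣ orderOf X := hrk ▸ orderOf_map_dvd π X
    have hr2 : r ^ 2 ∣ orderOf X := (pow_dvd_pow r hk2).trans hdvd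
    have hpq : r ∣ Fintype.card F := hq ▸ dvd_pow_self r f.ne_zero
    have hq1 := Fintype.card_pos (α := F)
    rcases Linear.orderOf_dvd_cases r X with h | h | h
    · have h1 := Nat.dvd_sub hpq ((dvd_pow_self r two_ne_zero).trans (hr2.trans h))
      rw [Nat.sub_sub_self hq1] at h1
      exact hp.ne_one (Nat.dvd_one.1 h1)
    · have h1 := Nat.dvd_sub ((dvd_pow_self r two_ne_zero).trans (hr2.trans h)) hpq
      rw [Nat.add_sub_cancel_left] at h1
      exact hp.ne_one (Nat.dvd_one.1 h1)
    · have h1 : r * r ∣ 2 * r := by rw [← pow_two]; exact hr2.trans h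
      have hr' : r = 2 :=
        (Nat.prime_dvd_prime_iff_eq hp Nat.prime_two).1 (Nat.dvd_of_mul_dvd_mul_right hp.pos h1)
      subst hr'
      have h4 : X ^ 4 = 1 := orderOf_dvd_iff_pow_eq_one.1 h
      have h2 := orderOf_dvd_of_pow_eq_one (sq_eq_one_of_pow_four h4)
      have := Nat.le_of_dvd two_pos (hr2.trans h2)
      omega
  set W := X ^ i
  have hWπ : π W = π X ^ i := map_zpow π X i
  -- `W` is regular
  have hW : ¬ orderOf W ∣ 2 * p := by
    intro hd
    have hWc : W ^ r ^ k ∈ center SL2 := by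
      rw [← hπ, map_pow, hWπ, ← zpow_natCast, ← zpow_mul, mul_comm, zpow_mul, zpow_natCast, hrk,
        pow_orderOf_eq_one, one_zpow]
    have hd2 : orderOf W ∣ 2 * r ^ k :=
      orderOf_dvd_of_pow_eq_one (by rw [mul_comm, pow_mul]; exact center_sq hWc)
    have hgcd : Nat.gcd (2 * p) (2 * r ^ k) = 2 := by
      rw [Nat.gcd_mul_left, ((Nat.coprime_primes hp hr).2 hrp.symm).pow_right k |>.gcd_eq_one]
    have hW2 : W ^ 2 = 1 := orderOf_dvd_iff_pow_eq_one.1 ((Nat.dvd_gcd hd hd2).trans (dvd_of_eq hgcd))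
    rcases hp.eq_two_or_odd with rfl | hodd
    · have hw2 : orderOf (π X ^ i) ∣ 2 :=
        orderOf_dvd_of_pow_eq_one (by rw [← hWπ, ← map_pow, hW2, map_one])
      have hwr : orderOf (π X ^ i) ∣ r ^ k :=
        orderOf_dvd_of_pow_eq_one (by rw [← hWπ, ← map_pow]; exact (hπ _).2 hWc)
      exact hw1 (orderOf_eq_one_iff.1 (Nat.eq_one_of_dvd_coprimes
        (((Nat.coprime_primes Nat.prime_two hr).2 hrp.symm).pow_right k) hw2 hwr))
    · apply hw1
      rw [← hWπ, hπ]
      by_cases h1 : W = 1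
      · rw [h1]; exact one_mem _
      have hF : Odd (Fintype.card F) := hq ▸ (Nat.odd_iff.2 hodd).pow
      have e := Linear.eq_neg_one_of_mul_self (Linear.two_ne_zero_of_odd_card hF) h1
        (by rw [← pow_two]; exact hW2)
      refine mem_center_iff.2 fun g => Subtype.ext ?_
      rw [Matrix.SpecialLinearGroup.coe_mul, Matrix.SpecialLinearGroup.coe_mul, e, mul_neg, neg_mul,
        mul_one, one_mul]
  set H := centralizer ({W} : Set SL2) with hH
  haveI : IsCyclic H := Linear.isCyclic_of_le_centralizer_of_not_dvd p hW H le_rfl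
  haveI : IsCyclic (H.map π) := isCyclic_of_surjective (π.subgroupMap H) (π.subgroupMap_surjective H)
  have hXH : X ∈ H := mem_centralizer_singleton_iff.2 ((Commute.refl X).zpow_right i).eq
  have hYH : Y ∈ H := by
    have hz : W⁻¹ * Y ^ j ∈ center SL2 := by
      rw [← hπ, map_mul, map_inv, hWπ, map_zpow, hj, inv_mul_cancel]
    have hc : Commute Y (W⁻¹ * Y ^ j) := mem_center_iff.1 hz Y
    have h1 : Commute Y W⁻¹ := by
      simpa [mul_assoc] using hc.mul_right ((Commute.refl Y).zpow_right j).inv_right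
    exact mem_centralizer_singleton_iff.2 (by simpa using h1.inv_right.eq)
  exact zpowers_eq_of_cyclic (H.map π) ⟨X, hXH, rfl⟩ ⟨Y, hYH, rfl⟩ ho

end Two

/-- `J₁` has TI cyclic subgroups of prime power order. -/
theorem tip_J1 : TIP ↥Cfsg.Spor.J1 := by
  refine tip_of fun x _ _ _ hpp hnp _ _ _ => absurd ?_ hnp
  obtain ⟨e, he, hd⟩ := RecogThree.J1Orders.exists_exponent x
  have hle : orderOf x ≤ 19 := by
    refine (Nat.le_of_dvd ?_ hd).trans ?_ <;> fin_cases he <;> norm_num
  have key : ∀ e ∈ ([6, 7, 10, 11, 15, 19] : List ℕ), ∀ n < 20, n ∣ e →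
      n = 1 ∨ n.Prime ∨ n = 6 ∨ n = 10 ∨ n = 15 := by decide
  rcases key e he _ (by omega) hd with h | h | h | h | h
  · exact absurd (h ▸ hpp) not_isPrimePow_one
  · exact h
  all_goals
    exfalso
    rw [h, isPrimePow_nat_iff_bounded] at hpp
    revert hpp; decide

theorem TIP.of_equiv {G H : Type*} [Group G] [Group H] (e : G ≃* H) (h : TIP H) : TIP G := by
  intro K hK hpp g
  haveI := hK
  have hc : IsCyclic (K.map e.toMonoidHom) := isCyclic_of_surjective _ (e.toMonoidHom.subgroupMap_surjective K)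
  have hcard : Nat.card (K.map e.toMonoidHom) = Nat.card K :=
    Subgroup.card_map_of_injective (f := e.toMonoidHom) e.injective
  have hmap : (K.map (MulAut.conj g).toMonoidHom).map e.toMonoidHom =
      (K.map e.toMonoidHom).map (MulAut.conj (e g)).toMonoidHom := by
    rw [Subgroup.map_map, Subgroup.map_map]
    congr 1
    ext v
    simp
  rcases h _ hc (hcard.symm ▸ hpp) (e g) with e' | e' <;> rw [← hmap] at e'
  · exact Or.inl (Subgroup.map_injective e.injective e')
  · refine Or.inr (Subgroup.map_injective (f := e.toMonoidHom) e.injective ?_)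
    rw [Subgroup.map_inf _ _ _ e.injective, e', Subgroup.map_bot]

end Cfsg.Agent.Lib.TICyclic68
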