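import Cfsg.Agent.Lib.TICyclic68.Sylow
import Cfsg.Agent.Lib.TICyclic68.Converse
import Cfsg.Agent.Lib.Walter.Final
import Cfsg.Agent.Lib.Walter.OrderDone
import Cfsg.Agent.Lib.Walter.NoField.Big
import Cfsg.Agent.Lib.Walter.NoField.Reduced
import Cfsg.Agent.Lib.AllAbelian80.Main
import Cfsg.Agent.Lib.ReeTorus80.Build
import Cfsg.Agent.Lib.ReeNine68.Main
import Cfsg.Agent.Lib.GorensteinWalter.Main
import Cfsg.Agent.Lib.GorensteinWalter.Wiring

/-!
# Simple groups with TI cyclic subgroups of prime power order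

Owner: helper68.
-/

set_option autoImplicit false
set_option linter.style.haveILetI false
set_option linter.unusedSectionVars false

namespace Cfsg.Agent.Lib.TICyclic68

open Subgroup Cfsg.Agent.Lib.Walter Cfsg.Agent.Lib.Walter.NoField Cfsg.Agent.Lib.Walter66
open Cfsg.Agent.Lib.AllAbelian80

universe u

/-- The alternating group of degree seven has a cyclic subgroup of order four that is not TI. -/
theorem not_tip_seven {G : Type u} [Group G] (h : TIP G) (e : G ≃* alternatingGroup (Fin 7)) : False := by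
  let x : alternatingGroup (Fin 7) :=
    ⟨Equiv.swap 0 2 * Equiv.swap 2 1 * Equiv.swap 1 3 * Equiv.swap 4 5, Equiv.Perm.mem_alternatingGroup.2 (by decide)⟩
  let g : alternatingGroup (Fin 7) := ⟨Equiv.swap 0 1 * Equiv.swap 5 6, Equiv.Perm.mem_alternatingGroup.2 (by decide)⟩
  have hx : x ^ 4 = 1 := by decide
  have hx2 : x ^ 2 ≠ 1 := by decide
  have hg : g * x ^ 2 = x ^ 2 * g := by decide
  have hmem : g * x * g⁻¹ ∉ zpowers x := by
    intro hh
    obtain ⟨i, hi⟩ := mem_zpowers_iff.1 hh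
    have h4 : orderOf x = 4 :=
      orderOf_eq_prime_pow (p := 2) (n := 1) (by simpa using hx2) hx
    rw [← zpow_mod_orderOf, h4] at hi
    have : i % ((4 : ℕ) : ℤ) = 0 ∨ i % ((4 : ℕ) : ℤ) = 1 ∨ i % ((4 : ℕ) : ℤ) = 2 ∨
        i % ((4 : ℕ) : ℤ) = 3 := by omega
    rcases this with e | e | e | e <;> rw [e] at hi <;> revert hi <;> decide
  have hm := ti2_of_ti h (e.symm x) (e.symm g) ⟨2, by rw [← map_pow, show 2 ^ 2 = 4 from rfl, hx, map_one]⟩
    (e.symm (x ^ 2)) (by rw [map_pow]; exact pow_mem (mem_zpowers _) 2)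
    (fun h' => hx2 (e.symm.injective (h'.trans (map_one _).symm))) (by rw [← map_mul, hg, map_mul])
  obtain ⟨i, hi⟩ := mem_zpowers_iff.1 hm
  refine hmem (mem_zpowers_iff.2 ⟨i, e.symm.injective ?_⟩)
  simpa using hi

/-- A group of Janko–Ree type with TI cyclic subgroups is `J₁`. -/
theorem isoJ1_of_jr {G : Type u} [Group G] [Finite G] (jr : IsJR G) (h : TIP G) :
    Cfsg.Spor.IsoJ1 G := by
  haveI : Fact (Nat.Prime 2) := ⟨Nat.prime_two⟩
  haveI := jr.simple
  letI := Fintype.ofFinite G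
  obtain ⟨S⟩ : Nonempty (Sylow 2 G) := inferInstance
  have h2 : 2 ∣ Nat.card (S : Subgroup G) := by
    rw [jr.card_sylow S]; norm_num
  obtain ⟨⟨t, htS⟩, ht'⟩ := exists_prime_orderOf_dvd_card' 2 h2
  have ht : orderOf t = 2 := by rwa [← Subgroup.orderOf_mk t htS]
  obtain ⟨E, E₀, hE⟩ := jr.centralizer t ht
  have hEE : E = E₀ := noField_of_bigBad propBigBad propOrder G jr t ht E E₀ hE
  subst hEE
  have C : Ctx S t E E := ⟨jr, ht, htS, hE⟩
  have hab : ∀ P : Sylow 2 G, IsMulCommutative (P : Subgroup G) := fun P => (jr.elementary P).1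
  obtain ⟨F, hFi, hFf, hq, h5, ⟨φ⟩⟩ := hE.2.2.2.2.1
  obtain ⟨d⟩ := prod_equiv ht hE.1
  let e := d.trans ((MulEquiv.refl _).prodCongr φ)
  rcases propOrder G (fun P a b => by haveI := hab P; exact mul_comm' a b) F (by omega) t ht ⟨e⟩ with
    ⟨m, hm, hF, hc⟩ | ⟨hF, -⟩
  · exfalso
    obtain ⟨d, s, U, T, P, N, M, Y, W, r, hS, hr, hno⟩ :=
      ReeTorus80.exists_setting_of_jr jr C hm hF φ hc
    exact ReeNine68.not_ti_ree hS hr hno h
  · obtain ⟨e5⟩ := Linear.SmallIso.nonempty_psl_two_five (F := F) (by omega)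
    exact Cfsg.Agent.S1644.result S (hab S) (jr.card_sylow S) t ht
      (e.trans ((MulEquiv.refl _).prodCongr e5))

/-- Simple groups with TI cyclic subgroups of prime power order. -/
theorem classification {G : Type u} [Group G] [Finite G] [IsSimpleGroup G]
    (hna : ¬ IsMulCommutative G) (h : TIP G) :
    (∃ (F : Type) (_ : Field F) (_ : Fintype F), 3 < Fintype.card F ∧
      Nonempty (G ≃* Matrix.ProjectiveSpecialLinearGroup (Fin 2) F)) ∨ Cfsg.Spor.IsoJ1 G := by
  rcases sylow_two hna (ti2_of_ti h) with hS | hS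
  · rcases propKnownFinal G inferInstance hna hS with
      ⟨n, F, hFi, hFf, hn, hF, he⟩ | ⟨F, hFi, hFf, -, h5, he⟩ | hJ
    · exact Or.inl ⟨F, hFi, hFf, by
        have := Nat.pow_le_pow_right (n := 2) two_pos hn
        omega, he⟩
    · exact Or.inl ⟨F, hFi, hFf, by omega, he⟩
    · exact Or.inr (isoJ1_of_jr hJ h)
  · rcases GorensteinWalter.known_of_propMain GorensteinWalter.propMainFinal G inferInstance hna hS with
      ⟨F, hFi, hFf, -, h3, he⟩ | ⟨⟨e⟩⟩
    · exact Or.inl ⟨F, hFi, hFf, h3, he⟩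
    · exact (not_tip_seven h e).elim

end Cfsg.Agent.Lib.TICyclic68
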