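import Cfsg.Agent.Lib.TICyclic68.TwoSquares
import Cfsg.Agent.Lib.DihedralPair.Transfer
import Cfsg.Agent.Lib.ZStar.Consequences
import Cfsg.Agent.Lib.ZStar.StronglyClosed
import Cfsg.Agent.Lib.PGroups.Frattini
import Cfsg.Agent.Lib.PGroups.UniqueInvolution
import Cfsg.Agent.Lib.PGroups.Recognition
import Cfsg.Agent.Lib.GorensteinWalter.Interface
import Cfsg.Agent.Lib.Walter.Interface

/-!
# Sylow 2-subgroups of simple groups with TI cyclic 2-subgroups

They are abelian or dihedral.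

Owner: helper68.
-/

set_option autoImplicit false
set_option linter.style.haveILetI false
set_option linter.unusedSectionVars false

namespace Cfsg.Agent.Lib.TICyclic68

open Subgroup
open scoped commutatorElement

universe u

variable {G : Type u} [Group G]

theorem Root.coe {H : Subgroup G} {a x : H} (r : Root a x) : Root (a : G) (x : G) :=
  ⟨by rw [← H.coe_mul, r.1], by rw [← H.coe_mul, r.2.1, H.coe_one], fun e => r.2.2 (Subtype.ext e)⟩

theorem no_index_two [IsSimpleGroup G] (hna : ¬ IsMulCommutative G) (N : Subgroup G) :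
    N.index ≠ 2 := by
  intro hN
  rcases IsSimpleGroup.eq_bot_or_eq_top_of_normal N (Subgroup.normal_of_index_eq_two hN) with e | e
  · rw [e, Subgroup.index_bot] at hN
    haveI : Fact (Nat.Prime 2) := ⟨Nat.prime_two⟩
    haveI : IsCyclic G := isCyclic_of_prime_card hN
    exact hna IsCyclic.isMulCommutative
  · rw [e, Subgroup.index_top] at hN; omega

theorem orderOf_two {H : Type*} [Group H] {a : H} (h : a * a = 1) (h1 : a ≠ 1) : orderOf a = 2 :=
  orderOf_eq_prime (by rw [pow_two]; exact h) h1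

variable [Finite G]

/-- A 2-subgroup containing `S` is `S`. -/
theorem le_sylow_of_normalizes (S : Sylow 2 G) {w : G} (hw : ∃ k, w ^ 2 ^ k = 1)
    (hn : ∀ v ∈ (S : Subgroup G), v * w * v⁻¹ ∈ zpowers w) : w ∈ (S : Subgroup G) := by
  haveI : Fact (Nat.Prime 2) := ⟨Nat.prime_two⟩
  obtain ⟨k, hk⟩ := hw
  have hp : IsPGroup 2 (zpowers w) := fun ⟨v, hv⟩ => by
    obtain ⟨i, rfl⟩ := mem_zpowers_iff.1 hv
    exact ⟨k, Subtype.ext (by
      show (w ^ i) ^ 2 ^ k = 1
      rw [← zpow_natCast, ← zpow_mul, mul_comm, zpow_mul, zpow_natCast, hk, one_zpow])⟩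
  have hle : (S : Subgroup G) ≤ normalizer ((zpowers w : Subgroup G) : Set G) := by
    intro v hv
    refine mem_normalizer_iff.2 fun h => ⟨fun hh => ?_, fun hh => ?_⟩
    · obtain ⟨i, rfl⟩ := mem_zpowers_iff.1 hh
      rw [← conj_zpow]; exact zpow_mem (hn v hv) i
    · obtain ⟨i, hi⟩ := mem_zpowers_iff.1 hh
      have h1 := zpow_mem (hn v⁻¹ (inv_mem hv)) i
      rw [conj_zpow, hi] at h1
      simpa [mul_assoc] using h1
  have := S.3 (IsPGroup.to_sup_of_normal_right' S.2 hp hle) le_sup_left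
  exact this ▸ mem_sup_right (mem_zpowers w)

/-- Two squares force an abelian Sylow subgroup. -/
theorem comm_of_two_squares [IsSimpleGroup G] (hna : ¬ IsMulCommutative G) (hT : TI2 G)
    (S : Sylow 2 G) (h2 : ∃ a b x y : (S : Subgroup G), Root a x ∧ Root b y ∧ a ≠ b) :
    IsMulCommutative (S : Subgroup G) := by
  haveI : Fact (Nat.Prime 2) := ⟨Nat.prime_two⟩
  have hP : IsPGroup 2 (S : Subgroup G) := S.2
  have hTP := hT.subgroup (S : Subgroup G)
  set C := rootCent (S : Subgroup G) with hC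
  have hCc := rootCent_comm hP hTP h2
  by_cases hall : ∀ g, g ∈ C
  · exact ⟨⟨fun g h => hCc g (hall g) h (hall h)⟩⟩
  exfalso
  push Not at hall
  obtain ⟨s, hs⟩ := hall
  obtain ⟨hss, hsinv⟩ := structure_two hP hTP h2 hs
  have hidx : C.index = 2 := by
    refine index_eq_two_iff.2 ⟨s, fun b => ?_⟩
    by_cases hb : b ∈ C
    · exact Or.inr ⟨hb, fun h => hs ((mul_mem_cancel_left hb).1 h)⟩
    · exact Or.inl ⟨mul_mem_rootCent hP hTP h2 hb hs, hb⟩
  have hrel : (C.map (S : Subgroup G).subtype).relIndex (S : Subgroup G) = 2 := by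
    rw [Subgroup.relIndex, ← comap_subtype, comap_map_eq_self_of_injective (Subgroup.subtype_injective _)]
    exact hidx
  have hs2 : orderOf (s : G) = 2 :=
    orderOf_two (by rw [← coe_mul, hss, coe_one])
      (fun e => hs (by rw [show s = 1 from Subtype.ext e]; exact one_mem C))
  obtain ⟨g, ⟨m, hm, hgm⟩, hgS⟩ := DihedralPair.exists_conj_extremal S _ (map_subtype_le C) hrel
    (no_index_two hna) hs2 (P := (S : Subgroup G) ⊓ centralizer {(s : G)}) (S.2.to_le inf_le_left)
    (fun x hx => mem_centralizer_singleton_iff.1 hx.2)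
  obtain ⟨a, b, x, y, rx, ry, hab⟩ := h2
  have h2' : ∃ a b x y : (S : Subgroup G), Root a x ∧ Root b y ∧ a ≠ b := ⟨a, b, x, y, rx, ry, hab⟩
  have hxy := roots_commute hP hTP h2' rx ry
  have r3 : Root (a * b) (x * y) := by
    refine ⟨by rw [(show Commute x y from hxy).symm.mul_mul_mul_comm, rx.1, ry.1], ?_, ?_⟩
    · rw [(show Commute a b from squares_commute hP hTP rx ry).symm.mul_mul_mul_comm, rx.2.1, ry.2.1,
        one_mul]
    · exact fun e => hab (by rw [eq_inv_of_mul_eq_one_left e, inv_eq_of_mul_eq_one_right ry.2.1])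
  have hroot : ∀ {c w : (S : Subgroup G)}, Root c w → w ∈ C :=
    fun r => mem_rootCent.2 fun _ _ r' => roots_commute hP hTP h2' r r'
  -- `s` centralises the squares
  have hsc : ∀ {c w : (S : Subgroup G)}, Root c w → (c : G) * s = s * c := by
    intro c w r
    have h1 : s * c * s⁻¹ = c := by
      rw [← r.1, show s * (w * w) * s⁻¹ = (s * w * s⁻¹) * (s * w * s⁻¹) by group,
        hsinv w (hroot r), ← mul_inv_rev, r.1, inv_eq_of_mul_eq_one_right r.2.1]
    have h2'' := congrArg Subtype.val (mul_inv_eq_iff_eq_mul.1 h1).symm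
    simpa using h2''
  have himg : ∀ {c w : (S : Subgroup G)}, Root c w → ∃ c' : (S : Subgroup G),
      (c' : G) = g * c * g⁻¹ := fun {c w} r =>
    ⟨⟨_, hgS _ ⟨c.2, mem_centralizer_singleton_iff.2 (hsc r)⟩⟩, rfl⟩
  obtain ⟨c, w, c', r, hc', hcC⟩ : ∃ (c w c' : (S : Subgroup G)), Root c w ∧
      (c' : G) = g * c * g⁻¹ ∧ c' ∈ C := by
    obtain ⟨a', ha'⟩ := himg rx
    obtain ⟨b', hb'⟩ := himg ry
    by_cases ha : a' ∈ C
    · exact ⟨a, x, a', rx, ha', ha⟩
    by_cases hb : b' ∈ C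
    · exact ⟨b, y, b', ry, hb', hb⟩
    refine ⟨a * b, x * y, a' * b', r3, ?_, mul_mem_rootCent hP hTP h2' ha hb⟩
    rw [coe_mul, coe_mul, ha', hb']; group
  have rw' : Root (c' : G) (g * w * g⁻¹) := hc' ▸ r.coe.conj g
  -- `c'` is central
  have hcen : ∀ v : (S : Subgroup G), (v : G) * c' = c' * v := by
    intro v
    rw [← coe_mul, ← coe_mul]
    refine congrArg Subtype.val ?_
    by_cases hv : v ∈ C
    · exact hCc v hv c' hcC
    · refine mul_inv_eq_iff_eq_mul.1 ?_
      rw [(structure_two hP hTP h2' hv).2 c' hcC]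
      exact inv_eq_of_mul_eq_one_right (Subtype.ext rw'.2.1)
  have hwS : g * w * g⁻¹ ∈ (S : Subgroup G) := by
    refine le_sylow_of_normalizes S rw'.two_pow fun v hv => ?_
    rcases rw'.cases hT (hcen ⟨v, hv⟩) with e | e <;> rw [e]
    · exact mem_zpowers _
    · exact inv_mem (mem_zpowers _)
  set w' : (S : Subgroup G) := ⟨g * w * g⁻¹, hwS⟩ with hw'
  have hw'C : w' ∈ C := by
    by_contra h
    exact rw'.2.2 (rw'.1.symm.trans (congrArg Subtype.val (structure_two hP hTP h2' h).1))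
  have h3 : g * w * g⁻¹ * (g * s * g⁻¹) = g * s * g⁻¹ * (g * w * g⁻¹) := by
    rw [← hgm]; exact congrArg Subtype.val (hCc w' hw'C m hm)
  have h4 : (w : G) * s = s * w := by
    have h5 : g * ((w : G) * s) * g⁻¹ = g * ((s : G) * w) * g⁻¹ := by
      calc _ = g * w * g⁻¹ * (g * s * g⁻¹) := by group
        _ = _ := h3
        _ = _ := by group
    exact mul_left_cancel (mul_right_cancel h5)
  have h6 : s * w * s⁻¹ = w := mul_inv_eq_iff_eq_mul.2 (Subtype.ext (by simpa using h4.symm))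
  rw [hsinv w (hroot r)] at h6
  refine r.2.2 ?_
  rw [← r.1]; nth_rw 1 [← h6]; exact inv_mul_cancel w

section OneSquare

variable (S : Sylow 2 G)
  (h1 : ∀ {a b x y : (S : Subgroup G)}, Root a x → Root b y → a = b)

include h1 in
/-- In every 2-subgroup the elements of order four have one square. -/
theorem square_unique {a b x y : G} (rx : Root a x) (ry : Root b y) {H : Subgroup G}
    (hH : IsPGroup 2 H) (hx : x ∈ H) (hy : y ∈ H) : a = b := by
  haveI : Fact (Nat.Prime 2) := ⟨Nat.prime_two⟩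
  obtain ⟨T, hT⟩ := hH.exists_le_sylow
  obtain ⟨k, hk⟩ := MulAction.exists_smul_eq G T S
  have hmem : ∀ v ∈ H, k * v * k⁻¹ ∈ (S : Subgroup G) := fun v hv => by
    rw [← hk]
    exact Subgroup.smul_mem_pointwise_smul _ (MulAut.conj k) (T : Subgroup G) (hT hv)
  have ha : k * a * k⁻¹ ∈ (S : Subgroup G) := hmem a (rx.1 ▸ mul_mem hx hx)
  have hb : k * b * k⁻¹ ∈ (S : Subgroup G) := hmem b (ry.1 ▸ mul_mem hy hy)
  have rx' : Root (⟨_, ha⟩ : (S : Subgroup G)) ⟨_, hmem x hx⟩ :=
    ⟨Subtype.ext (rx.conj k).1, Subtype.ext (rx.conj k).2.1,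
      fun e => (rx.conj k).2.2 (congrArg Subtype.val e)⟩
  have ry' : Root (⟨_, hb⟩ : (S : Subgroup G)) ⟨_, hmem y hy⟩ :=
    ⟨Subtype.ext (ry.conj k).1, Subtype.ext (ry.conj k).2.1,
      fun e => (ry.conj k).2.2 (congrArg Subtype.val e)⟩
  exact mul_left_cancel (mul_right_cancel (congrArg Subtype.val (h1 rx' ry')))

end OneSquare

/-- A conjugate involution in the centraliser of an element of order four inverts it. -/
theorem inverts_of_conj (hT : TI2 G) (S : Sylow 2 G)
    (h1 : ∀ {a b x y : (S : Subgroup G)}, Root a x → Root b y → a = b)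
    {z z' x x' : G} (rx : Root z x) (rx' : Root z' x') (hne : z' ≠ z) (hcomm : z' * z = z * z') :
    z' * x * z'⁻¹ = x⁻¹ := by
  haveI : Fact (Nat.Prime 2) := ⟨Nat.prime_two⟩
  refine (rx.cases hT hcomm).resolve_left fun e => hne ?_
  have hxz : x * z' = z' * x := (mul_inv_eq_iff_eq_mul.1 e).symm
  have hp : ∀ {v : G}, (∃ k, v ^ 2 ^ k = 1) → IsPGroup 2 (zpowers v) := fun {v} ⟨k, hk⟩ ⟨u, hu⟩ => by
    obtain ⟨i, rfl⟩ := mem_zpowers_iff.1 hu
    exact ⟨k, Subtype.ext (by
      show (v ^ i) ^ 2 ^ k = 1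
      rw [← zpow_natCast, ← zpow_mul, mul_comm, zpow_mul, zpow_natCast, hk, one_zpow])⟩
  have hn : ∀ v : G, v * z' = z' * v → ∀ h ∈ zpowers x', v * h * v⁻¹ ∈ zpowers x' := by
    intro v hv h hh
    obtain ⟨i, rfl⟩ := mem_zpowers_iff.1 hh
    rw [← conj_zpow]
    exact zpow_mem (hT x' v rx'.two_pow z' rx'.mem rx'.2.2 hv) i
  have hle : zpowers x ≤ normalizer ((zpowers x' : Subgroup G) : Set G) := by
    refine zpowers_le.2 (mem_normalizer_iff.2 fun h => ⟨hn x hxz h, fun hh => ?_⟩)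
    have hxi : x⁻¹ * z' = z' * x⁻¹ := ((show Commute x z' from hxz).inv_left).eq
    have := hn x⁻¹ hxi _ hh
    simpa [mul_assoc] using this
  exact (square_unique S h1 rx rx' (IsPGroup.to_sup_of_normal_right' (hp rx.two_pow) (hp rx'.two_pow) hle)
    (mem_sup_left (mem_zpowers x)) (mem_sup_right (mem_zpowers x'))).symm

/-- One square forces a dihedral Sylow subgroup. -/
theorem dihedral_of_one_square [IsSimpleGroup G] (hna : ¬ IsMulCommutative G) (hT : TI2 G)
    (S : Sylow 2 G) (h1 : ∀ {a b x y : (S : Subgroup G)}, Root a x → Root b y → a = b)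
    {z x₀ : (S : Subgroup G)} (r₀ : Root z x₀) :
    ∃ n, 2 ≤ n ∧ Nonempty ((S : Subgroup G) ≃* DihedralGroup n) := by
  classical
  haveI : Fact (Nat.Prime 2) := ⟨Nat.prime_two⟩
  have hP : IsPGroup 2 (S : Subgroup G) := S.2
  have hTP := hT.subgroup (S : Subgroup G)
  -- `z` is central
  have hzc : ∀ v : (S : Subgroup G), v * z = z * v :=
    fun v => mul_inv_eq_iff_eq_mul.1 (h1 (r₀.conj v) r₀)
  -- and not isolated
  obtain ⟨g₀, hg₀, hg₀'⟩ : ∃ g : G, Commute (z : G) (g * z * g⁻¹) ∧ g * (z : G) * g⁻¹ ≠ z := by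
    by_contra hcon
    push Not at hcon
    have hiso : Cfsg.IsIsolatedInvolution (z : G) :=
      ⟨orderOf_two r₀.coe.2.1 r₀.coe.2.2, fun g hg => hcon g hg⟩
    have hO : Cfsg.oddCore G = ⊥ := by
      haveI : (Cfsg.oddCore G).Normal := by unfold Cfsg.oddCore; infer_instance
      refine (IsSimpleGroup.eq_bot_or_eq_top_of_normal _ inferInstance).resolve_right fun e => ?_
      have hodd : Odd (Nat.card G) := by
        rw [← Subgroup.card_top (G := G), ← e]; exact ZStar.Elements.oddCore_odd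
      have := orderOf_dvd_natCard (z : G)
      rw [hiso.1] at this
      exact absurd (even_iff_two_dvd.2 this) (Nat.not_even_iff_odd.2 hodd)
    have hc : (z : G) ∈ center G := by
      refine mem_center_iff.2 fun g => ?_
      have h := ZStar.Consequences.isolated_commutator_mem ZStar.StronglyClosed.involutionThm hiso g
      rw [hO, mem_bot, mul_inv_eq_one, mul_inv_eq_iff_eq_mul] at h
      exact h.symm
    rcases IsSimpleGroup.eq_bot_or_eq_top_of_normal (center G) inferInstance with e | e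
    · exact r₀.coe.2.2 (mem_bot.1 (e ▸ hc))
    · exact hna ⟨⟨fun a b => (mem_center_iff.1 (e ▸ mem_top b) a)⟩⟩
  -- move it into `S`
  obtain ⟨g₁, z', hz', hne⟩ : ∃ (g : G) (z' : (S : Subgroup G)), (z' : G) = g * z * g⁻¹ ∧ z' ≠ z := by
    set K : Subgroup G := zpowers (z : G) ⊔ zpowers (g₀ * z * g₀⁻¹) with hK
    have hp : ∀ {v : G}, v * v = 1 → IsPGroup 2 (zpowers v) := fun {v} hv ⟨u, hu⟩ => by
      obtain ⟨i, rfl⟩ := mem_zpowers_iff.1 hu
      exact ⟨1, Subtype.ext (by
        show (v ^ i) ^ 2 ^ 1 = 1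
        rw [← zpow_natCast, ← zpow_mul, mul_comm, zpow_mul, pow_one,
          show ((2 : ℕ) : ℤ) = 1 + 1 by norm_num, zpow_add, zpow_one, hv, one_zpow])⟩
    have hle : zpowers (z : G) ≤ normalizer ((zpowers (g₀ * z * g₀⁻¹) : Subgroup G) : Set G) := by
      refine zpowers_le.2 (centralizer_le_normalizer _ (mem_centralizer_iff.2 fun h hh => ?_))
      obtain ⟨i, rfl⟩ := mem_zpowers_iff.1 hh
      exact (hg₀.zpow_right i).symm.eq
    have hKp : IsPGroup 2 K :=
      IsPGroup.to_sup_of_normal_right' (hp r₀.coe.2.1) (hp (r₀.coe.conj g₀).2.1) hle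
    obtain ⟨T, hT'⟩ := hKp.exists_le_sylow
    obtain ⟨k, hk⟩ := MulAction.exists_smul_eq G T S
    have hmem : ∀ v ∈ K, k * v * k⁻¹ ∈ (S : Subgroup G) := fun v hv => by
      rw [← hk]
      exact Subgroup.smul_mem_pointwise_smul _ (MulAut.conj k) (T : Subgroup G) (hT' hv)
    by_cases hkz : k * (z : G) * k⁻¹ = z
    · refine ⟨k * g₀, ⟨_, hmem _ (mem_sup_right (mem_zpowers _))⟩, by group, fun e => hg₀' ?_⟩
      have e' : k * (g₀ * z * g₀⁻¹) * k⁻¹ = k * z * k⁻¹ := (congrArg Subtype.val e).trans hkz.symm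
      exact mul_left_cancel (mul_right_cancel e')
    · exact ⟨k, ⟨_, hmem _ (mem_sup_left (mem_zpowers _))⟩, rfl, fun e => hkz (congrArg Subtype.val e)⟩
  have rz' : Root (z' : G) (g₁ * x₀ * g₁⁻¹) := hz' ▸ r₀.coe.conj g₁
  have hz'2 : z' * z' = 1 := Subtype.ext rz'.2.1
  -- `z'` inverts the elements of order four
  have hinv : ∀ {a x : (S : Subgroup G)}, Root a x → z' * x * z'⁻¹ = x⁻¹ := by
    intro a x r
    obtain rfl := h1 r r₀
    exact Subtype.ext (inverts_of_conj hT S h1 r.coe rz' (fun e => hne (Subtype.ext e))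
      (congrArg Subtype.val (hzc z')))
  -- and all elements of order at least four
  have hinvk : ∀ k : (S : Subgroup G), k * k ≠ 1 → z' * k * z'⁻¹ = k⁻¹ := by
    intro k hk
    obtain ⟨N, hN⟩ := exists_order (hP k) hk
    have r := exists_root hN
    have hmem := hTP k z' (hP k) _ (pow_mem (mem_zpowers k) (2 ^ (N + 1))) r.2.2
      (by rw [h1 r r₀]; exact hzc z')
    obtain ⟨i, hi⟩ := mem_zpowers_iff.1 hmem
    have hz'i : z'⁻¹ = z' := inv_eq_of_mul_eq_one_right hz'2
    set e := (z' * k) * (z' * k) with he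
    have he' : e = k ^ i * k := by rw [hi, he, hz'i]; simp only [mul_assoc]
    have hee : z' * e = e * z' := by
      refine mul_inv_eq_iff_eq_mul.1 ?_
      calc z' * e * z'⁻¹ = z' * z' * (k * z' * k * z'⁻¹) := by rw [he]; group
        _ = k * (z' * k * z'⁻¹) := by rw [hz'2, one_mul]; group
        _ = e := by rw [← hi, he', (Commute.self_zpow k i).eq]
    by_cases he2 : e * e = 1
    · by_cases he1 : e = 1
      · refine eq_inv_of_mul_eq_one_left ?_
        rw [← hi, ← he', he1]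
      · exfalso
        have h5 := hinv (show Root e (z' * k) from ⟨rfl, he2, he1⟩)
        rw [mul_inv_rev, hz'i, ← mul_assoc, hz'2, one_mul] at h5
        exact hk (mul_eq_one_iff_eq_inv.2 (mul_right_cancel h5))
    · exfalso
      obtain ⟨M, hM⟩ := exists_order (hP e) he2
      have r' := exists_root hM
      have hcm : z' * e ^ 2 ^ M * z'⁻¹ = e ^ 2 ^ M := by
        rw [((show Commute z' e from hee).pow_right _).eq, mul_inv_cancel_right]
      rw [hinv r'] at hcm
      exact r'.2.2 (by rw [← r'.1]; nth_rw 1 [← hcm]; exact inv_mul_cancel _)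
  -- the centraliser of `x₀` in `S`
  set K₀ : Subgroup (S : Subgroup G) := centralizer {x₀} with hK₀
  have hinvK : ∀ k ∈ K₀, z' * k * z'⁻¹ = k⁻¹ := by
    intro k hk
    have hkx : Commute k x₀ := mem_centralizer_singleton_iff.1 hk
    by_cases hkk : k * k = 1
    · have r : Root z (x₀ * k) :=
        ⟨by rw [hkx.mul_mul_mul_comm, r₀.1, hkk, mul_one], r₀.2.1, r₀.2.2⟩
      have h5 := hinv r
      rw [show z' * (x₀ * k) * z'⁻¹ = (z' * x₀ * z'⁻¹) * (z' * k * z'⁻¹) by group, hinv r₀,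
        ← hkx.eq, mul_inv_rev] at h5
      exact mul_left_cancel h5
    · exact hinvk k hkk
  have hK₀c : ∀ a ∈ K₀, ∀ b ∈ K₀, a * b = b * a := by
    intro a ha b hb
    have h5 := hinvK (a * b) (mul_mem ha hb)
    rw [show z' * (a * b) * z'⁻¹ = (z' * a * z'⁻¹) * (z' * b * z'⁻¹) by group, hinvK a ha, hinvK b hb,
      ← mul_inv_rev] at h5
    exact (inv_injective h5).symm
  have hz'K : z' ∉ K₀ := fun h => by
    have h5 := hinv r₀
    rw [show z' * x₀ = x₀ * z' from mem_centralizer_singleton_iff.1 h, mul_inv_cancel_right] at h5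
    exact r₀.2.2 (by rw [← r₀.1]; nth_rw 1 [h5]; exact inv_mul_cancel x₀)
  have hout : ∀ v, v ∉ K₀ → v * z' ∈ K₀ := by
    intro v hv
    refine mem_centralizer_singleton_iff.2 (mul_inv_eq_iff_eq_mul.1 ?_)
    rcases r₀.cases hTP (hzc v) with e | e
    · exact absurd (mem_centralizer_singleton_iff.2 (mul_inv_eq_iff_eq_mul.1 e)) hv
    · rw [show v * z' * x₀ * (v * z')⁻¹ = v * (z' * x₀ * z'⁻¹) * v⁻¹ by group, hinv r₀,
        show v * x₀⁻¹ * v⁻¹ = (v * x₀ * v⁻¹)⁻¹ by group, e, inv_inv]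
  have hinvo : ∀ v, v ∉ K₀ → v * v = 1 ∧ ∀ k ∈ K₀, v * k * v⁻¹ = k⁻¹ := by
    intro v hv
    obtain ⟨w, hw, rfl⟩ : ∃ w ∈ K₀, v = w * z' :=
      ⟨v * z', hout v hv, by rw [mul_assoc, hz'2, mul_one]⟩
    have hz'i : z'⁻¹ = z' := inv_eq_of_mul_eq_one_right hz'2
    refine ⟨?_, fun k hk => ?_⟩
    · have h5 := hinvK w hw
      rw [hz'i] at h5
      rw [show w * z' * (w * z') = w * (z' * w * z') by group, h5, mul_inv_cancel]
    · rw [show w * z' * k * (w * z')⁻¹ = w * (z' * k * z'⁻¹) * w⁻¹ by group, hinvK k hk,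
        hK₀c w hw k⁻¹ (inv_mem hk), mul_inv_cancel_right]
  have hK₀i : K₀.index = 2 := by
    refine index_eq_two_iff.2 ⟨z', fun b => ?_⟩
    by_cases hb : b ∈ K₀
    · exact Or.inr ⟨hb, fun h => hz'K ((mul_mem_cancel_left hb).1 h)⟩
    · exact Or.inl ⟨hout b hb, hb⟩
  -- `z` is the only involution of `K₀`
  have huniq : ∀ u ∈ K₀, u * u = 1 → u ≠ 1 → u = z := by
    intro u hu huu hu1
    by_contra huz
    let Q : Subgroup (S : Subgroup G) :=
      { carrier := {q | ∃ k ∈ K₀, k * k = q}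
        one_mem' := ⟨1, one_mem _, mul_one 1⟩
        mul_mem' := by
          rintro _ _ ⟨a, ha, rfl⟩ ⟨b, hb, rfl⟩
          exact ⟨a * b, mul_mem ha hb,
            (show Commute a b from hK₀c a ha b hb).symm.mul_mul_mul_comm a b⟩
        inv_mem' := by
          rintro _ ⟨a, ha, rfl⟩
          exact ⟨a⁻¹, inv_mem ha, (mul_inv_rev a a).symm⟩ }
    have hsqQ : ∀ v : (S : Subgroup G), v * v ∈ Q := fun v => by
      by_cases hv : v ∈ K₀
      · exact ⟨v, hv, rfl⟩
      · rw [(hinvo v hv).1]; exact one_mem Q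
    have hcomm : commutator (S : Subgroup G) ≤ Q := by
      rw [_root_.commutator_def, Subgroup.commutator_le]
      intro a _ b _
      rw [show ⁅a, b⁆ = (a * a) * ((a⁻¹ * b) * (a⁻¹ * b)) * (b⁻¹ * b⁻¹) by
        rw [commutatorElement_def]; group]
      exact mul_mem (mul_mem (hsqQ _) (hsqQ _)) (hsqQ _)
    haveI : Q.Normal := ⟨fun q hq v => by
      have := mul_mem (hcomm (commutator_mem_commutator (mem_top v) (mem_top q))) hq
      simpa [commutatorElement_def] using this⟩
    have hfr : frattini (S : Subgroup G) ≤ Q :=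
      PGroups.frattini_le_of_pow_commutator (p := 2) Q (fun v => by rw [pow_two]; exact hsqQ v) hcomm
    have huQ : u ∉ Q := by
      rintro ⟨k, hk, hku⟩
      exact huz (h1 (show Root u k from ⟨hku, huu, hu1⟩) r₀)
    obtain ⟨M, hM, huM⟩ : ∃ M : Subgroup (S : Subgroup G), IsCoatom M ∧ u ∉ M := by
      by_contra hcon
      push Not at hcon
      refine huQ (hfr ?_)
      simp only [frattini, Order.radical, Subgroup.mem_iInf]
      exact fun M hM => hcon M hM
    have hMi := PGroups.coatom_index hP hM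
    have hzM : z ∈ M := r₀.1 ▸ mul_self_mem_of_index_two hMi x₀
    have hrel : (M.map (S : Subgroup G).subtype).relIndex (S : Subgroup G) = 2 := by
      rw [Subgroup.relIndex, ← comap_subtype,
        comap_map_eq_self_of_injective (Subgroup.subtype_injective _)]
      exact hMi
    have hucen : ∀ v, v * u = u * v := fun v => by
      by_cases hv : v ∈ K₀
      · exact hK₀c v hv u hu
      · refine mul_inv_eq_iff_eq_mul.1 ?_
        rw [(hinvo v hv).2 u hu]; exact inv_eq_of_mul_eq_one_right huu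
    obtain ⟨g, ⟨u', hu', hgu⟩, hgS⟩ := DihedralPair.exists_conj_extremal S _ (map_subtype_le M) hrel
      (no_index_two hna)
      (orderOf_two (show (u : G) * u = 1 by rw [← coe_mul, huu, coe_one])
        (fun e => hu1 (Subtype.ext e)))
      (P := (S : Subgroup G)) S.2 (fun v hv => congrArg Subtype.val (hucen ⟨v, hv⟩))
    have hux : Commute u x₀ := mem_centralizer_singleton_iff.1 hu
    have rxu : Root z (x₀ * u) :=
      ⟨by rw [hux.mul_mul_mul_comm, r₀.1, huu, mul_one], r₀.2.1, r₀.2.2⟩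
    have hgz : g * (z : G) * g⁻¹ = z :=
      square_unique S h1 (r₀.coe.conj g) r₀.coe (H := (S : Subgroup G)) S.2 (hgS _ x₀.2) x₀.2
    have hgzc : g * (z : G) = z * g := mul_inv_eq_iff_eq_mul.1 hgz
    have hxg : ∀ {w : (S : Subgroup G)}, Root z w →
        g * (w : G) * g⁻¹ = w ∨ g * (w : G) * g⁻¹ = (w : G) * z := by
      intro w r
      rcases r.coe.cases hT hgzc with e | e
      · exact Or.inl e
      · exact Or.inr (e.trans r.coe.sq_inv)
    have hval : g * (u : G) * g⁻¹ = u ∨ g * (u : G) * g⁻¹ = (z : G) * u := by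
      have he : g * (u : G) * g⁻¹ = (g * (x₀ : G) * g⁻¹)⁻¹ * (g * ((x₀ * u : (S : Subgroup G)) : G) * g⁻¹) := by
        rw [coe_mul]; group
      have hzu : (u : G) * z = z * u := congrArg Subtype.val (hzc u)
      rcases hxg r₀ with e | e <;> rcases hxg rxu with e' | e' <;> rw [e, e', coe_mul] at he
      · exact Or.inl (he.trans (inv_mul_cancel_left _ _))
      · exact Or.inr (by rw [he, mul_assoc (x₀ : G), inv_mul_cancel_left, hzu])
      · refine Or.inr (by
          rw [he, mul_inv_rev, mul_assoc, inv_mul_cancel_left, inv_eq_of_mul_eq_one_right r₀.coe.2.1])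
      · refine Or.inl (by
          rw [he, mul_inv_rev, mul_assoc (x₀ : G), mul_assoc, inv_mul_cancel_left, hzu,
            inv_mul_cancel_left])
    rcases hval with e | e
    · exact huM ((Subtype.ext (hgu.trans e) : u' = u) ▸ hu')
    · exact huM ((mul_mem_cancel_left hzM).1 ((Subtype.ext (hgu.trans e) : u' = z * u) ▸ hu'))
  have hcyc : IsCyclic K₀ := by
    refine PGroups.isCyclic_of_comm_omega (p := 2) ⟨⟨fun a b => Subtype.ext (hK₀c a a.2 b b.2)⟩⟩
      (hP.to_subgroup K₀) ?_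
    calc Nat.card (Cfsg.omegaOne 2 K₀) ≤ Nat.card (zpowers z) := by
          refine Subgroup.card_le_of_le ((closure_le _).2 fun v ⟨hv, hv2⟩ => ?_)
          rcases eq_or_ne v 1 with rfl | hv1
          · exact one_mem _
          · rw [huniq v hv (by rw [← pow_two]; exact hv2) hv1]; exact mem_zpowers z
      _ = 2 := by rw [Nat.card_zpowers, orderOf_two r₀.2.1 r₀.2.2]
  obtain ⟨a, ha⟩ := (K₀.isCyclic_iff_exists_zpowers_eq_top).1 hcyc
  have haK : a ∈ K₀ := ha ▸ mem_zpowers a
  have hcard : Nat.card K₀ = orderOf a := by rw [← ha, Nat.card_zpowers]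
  refine ⟨orderOf a, ?_, ?_⟩
  · have h := Nat.le_of_dvd Nat.card_pos (Subgroup.orderOf_dvd_natCard K₀ (x := z)
      (r₀.1 ▸ mul_mem (mem_centralizer_singleton_iff.2 rfl) (mem_centralizer_singleton_iff.2 rfl)))
    rw [orderOf_two r₀.2.1 r₀.2.2, hcard] at h
    exact h
  haveI : NeZero (orderOf a) := ⟨(orderOf_pos a).ne'⟩
  refine PGroups.nonempty_dihedral_equiv (a := a) (x := z') rfl (by rw [pow_two]; exact hz'2)
    (hinvK a haK) (ha ▸ hz'K) ?_
  rw [← K₀.card_mul_index, hK₀i, hcard, mul_comm]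

/-- Sylow 2-subgroups are abelian or dihedral. -/
theorem sylow_two [IsSimpleGroup G] (hna : ¬ IsMulCommutative G) (hT : TI2 G) :
    Walter.AbelianSylow G ∨ GorensteinWalter.HasDihedralSylow G := by
  classical
  haveI : Fact (Nat.Prime 2) := ⟨Nat.prime_two⟩
  obtain ⟨S⟩ : Nonempty (Sylow 2 G) := inferInstance
  have hS : IsMulCommutative (S : Subgroup G) ∨
      ∃ n, 2 ≤ n ∧ Nonempty ((S : Subgroup G) ≃* DihedralGroup n) := by
    by_cases he : ∀ g : (S : Subgroup G), g * g = 1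
    · exact Or.inl ⟨⟨fun a b => by
        have hi : ∀ c : (S : Subgroup G), c⁻¹ = c := fun c => inv_eq_of_mul_eq_one_right (he c)
        rw [← hi (a * b), mul_inv_rev, hi, hi]⟩⟩
    push Not at he
    obtain ⟨g, hg⟩ := he
    obtain ⟨k, hk⟩ := exists_order (S.2 g) hg
    by_cases h2 : ∃ a b x y : (S : Subgroup G), Root a x ∧ Root b y ∧ a ≠ b
    · exact Or.inl (comm_of_two_squares hna hT S h2)
    · exact Or.inr (dihedral_of_one_square hna hT S
        (fun rx ry => by_contra fun h => h2 ⟨_, _, _, _, rx, ry, h⟩) (exists_root hk))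
  rcases hS with hS | ⟨n, hn, ⟨e⟩⟩
  · refine Or.inl fun T => ⟨⟨fun a b => (Sylow.equiv T S).injective ?_⟩⟩
    haveI := hS
    rw [map_mul, map_mul, mul_comm']
  · exact Or.inr fun T => ⟨n, hn, ⟨(Sylow.equiv T S).trans e⟩⟩

end Cfsg.Agent.Lib.TICyclic68
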