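import Cfsg.Agent.Lib.TICyclic68.Basic
import Mathlib.GroupTheory.PGroup
import Mathlib.Data.Nat.Choose.Basic

/-!
# 2-groups with TI cyclic subgroups and two squares of elements of order four

They have a commutative subgroup containing all elements of order above two, inverted by every
element outside.

Owner: helper68.
-/

set_option autoImplicit false
set_option linter.style.haveILetI false
set_option linter.unusedSectionVars false

namespace Cfsg.Agent.Lib.TICyclic68

open Subgroup

variable {P : Type*} [Group P] (hP : IsPGroup 2 P) (hT : TI2 P)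

include hP in
/-- Odd powers generate. -/
theorem exists_odd_pow (g : P) {o : ℕ} (ho : ¬ 2 ∣ o) : ∃ m : ℕ, (g ^ o) ^ m = g := by
  obtain ⟨k, hk⟩ := hP g
  refine exists_pow_eq_self_of_coprime (Nat.Coprime.coprime_dvd_right (orderOf_dvd_of_pow_eq_one hk)
    (Nat.Coprime.pow_right k ?_))
  exact (Nat.prime_two.coprime_iff_not_dvd.2 ho).symm

include hT in
/-- Elements of order four with commuting distinct squares, each centralising the other's square, commute. -/
theorem commute_of_cent {a b x y : P} (rx : Root a x) (ry : Root b y) (hab : a ≠ b)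
    (hxb : x * b = b * x) (hya : y * a = a * y) : x * y = y * x := by
  rcases rx.cases hT hya with e | e
  · exact (mul_inv_eq_iff_eq_mul.1 e).symm
  · exfalso
    have e1 : x * y * x⁻¹ = a * y := by
      have h1 : y * x = x⁻¹ * y := mul_inv_eq_iff_eq_mul.1 e
      calc x * y * x⁻¹ = x * (y * x) * (x * x)⁻¹ := by group
        _ = y * a⁻¹ := by rw [h1, rx.1]; group
        _ = _ := by rw [inv_eq_of_mul_eq_one_right rx.2.1, hya]
    rcases ry.cases hT hxb with e2 | e2 <;> rw [e1] at e2
    · exact rx.2.2 (mul_eq_right.1 e2)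
    · rw [ry.sq_inv, ← hya] at e2
      exact hab (mul_left_cancel e2)

include hT in
/-- The square of the other centralises, or the element moves it to the product. -/
theorem square_cases {a b x : P} (rx : Root a x) (hb : b * b = 1) (hcomm : a * b = b * a) :
    x * b = b * x ∨ x * b * x⁻¹ = a * b := by
  rcases rx.cases hT hcomm.symm with e | e
  · exact Or.inl (mul_inv_eq_iff_eq_mul.1 e).symm
  · refine Or.inr ?_
    have h1 : b * x = x⁻¹ * b := mul_inv_eq_iff_eq_mul.1 e
    calc x * b * x⁻¹ = x * (b * x) * (x * x)⁻¹ := by group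
      _ = b * a⁻¹ := by rw [h1, rx.1]; group
      _ = _ := by rw [inv_eq_of_mul_eq_one_right rx.2.1, hcomm]

include hP hT in
/-- Elements of order four with distinct commuting squares commute. -/
theorem commute_of_squares {a b x y : P} (rx : Root a x) (ry : Root b y) (hab : a ≠ b)
    (hcomm : a * b = b * a) : x * y = y * x := by
  rcases square_cases hT rx ry.2.1 hcomm with h1 | h1
  · rcases square_cases hT ry rx.2.1 hcomm.symm with h2 | h2
    · exact commute_of_cent hT rx ry hab h1 h2
    · exfalso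
      rcases ry.cases hT h1 with e | e
      · have hxy : Commute x y := mul_inv_eq_iff_eq_mul.1 e
        have hay : Commute a y := rx.1 ▸ hxy.mul_left hxy
        rw [← hay.eq, mul_inv_cancel_right] at h2
        exact ry.2.2 (mul_eq_right.1 h2.symm)
      · -- `x` inverts `y`, so `a = x²` centralises it
        have hay : a * y * a⁻¹ = y := by
          rw [← rx.1, show x * x * y * (x * x)⁻¹ = x * (x * y * x⁻¹) * x⁻¹ by group, e,
            show x * y⁻¹ * x⁻¹ = (x * y * x⁻¹)⁻¹ by group, e, inv_inv]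
        rw [← mul_inv_eq_iff_eq_mul.1 hay, mul_inv_cancel_right] at h2
        exact ry.2.2 (mul_eq_right.1 h2.symm)
  · exfalso
    -- `x` sends `b` to `a b`; so does `y` with `a`, and `x y` permutes `a`, `b`, `a b` cyclically
    rcases square_cases hT ry rx.2.1 hcomm.symm with h2 | h2
    · rcases rx.cases hT h2 with e | e
      · have hxb : Commute x b := by
          have he : Commute y x := mul_inv_eq_iff_eq_mul.1 e
          rw [← ry.1]
          exact he.symm.mul_right he.symm
        rw [hxb.eq, mul_inv_cancel_right] at h1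
        exact rx.2.2 (mul_eq_right.1 h1.symm)
      · have hbx : b * x * b⁻¹ = x := by
          rw [← ry.1, show y * y * x * (y * y)⁻¹ = y * (y * x * y⁻¹) * y⁻¹ by group, e,
            show y * x⁻¹ * y⁻¹ = (y * x * y⁻¹)⁻¹ by group, e, inv_inv]
        rw [← mul_inv_eq_iff_eq_mul.1 hbx, mul_inv_cancel_right] at h1
        exact rx.2.2 (mul_eq_right.1 h1.symm)
    set w := x * y with hw
    have hxa : x * a * x⁻¹ = a := by rw [rx.comm_sq.eq, mul_inv_cancel_right]
    have hyb : y * b * y⁻¹ = b := by rw [ry.comm_sq.eq, mul_inv_cancel_right]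
    have haa : a * (a * b) = b := by rw [← mul_assoc, rx.2.1, one_mul]
    have w1 : w * a * w⁻¹ = b := by
      rw [hw, show x * y * a * (x * y)⁻¹ = x * (y * a * y⁻¹) * x⁻¹ by group, h2,
        show x * (b * a) * x⁻¹ = (x * b * x⁻¹) * (x * a * x⁻¹) by group, h1, hxa, mul_assoc, ← hcomm, haa]
    have w2 : w * b * w⁻¹ = a * b := by
      rw [hw, show x * y * b * (x * y)⁻¹ = x * (y * b * y⁻¹) * x⁻¹ by group, hyb, h1]
    have w3 : w ^ 3 * a * (w ^ 3)⁻¹ = a := by
      rw [show w ^ 3 * a * (w ^ 3)⁻¹ = w * (w * (w * a * w⁻¹) * w⁻¹) * w⁻¹ by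
        simp only [pow_succ, pow_zero, one_mul, mul_inv_rev, mul_assoc], w1, w2,
        show w * (a * b) * w⁻¹ = (w * a * w⁻¹) * (w * b * w⁻¹) by group, w1, w2, hcomm,
        ← mul_assoc, ry.2.1, one_mul]
    obtain ⟨k, hk⟩ := hP w
    obtain ⟨m, hwm⟩ := exists_odd_pow hP w (o := 3) (by norm_num)
    have he3 : Commute (w ^ 3) a := mul_inv_eq_iff_eq_mul.1 w3
    have hc : Commute w a := hwm ▸ he3.pow_left m
    rw [hc.eq, mul_inv_cancel_right] at w1
    exact hab w1

include hP hT in
/-- All squares of elements of order four commute. -/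
theorem squares_commute {a b x y : P} (rx : Root a x) (ry : Root b y) : a * b = b * a := by
  by_contra hne
  have ha : a⁻¹ = a := inv_eq_of_mul_eq_one_right rx.2.1
  have hb : b⁻¹ = b := inv_eq_of_mul_eq_one_right ry.2.1
  set u := a * b with hu
  have hinv : a * u * a⁻¹ = u⁻¹ := by
    rw [hu, ← mul_assoc, rx.2.1, one_mul, mul_inv_rev, ha, hb]
  obtain ⟨k, hk⟩ := exists_order (hP u) (fun e => hne (by
    have h1 : u⁻¹ = u := inv_eq_of_mul_eq_one_right e
    rw [hu, mul_inv_rev, ha, hb] at h1
    exact h1.symm))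
  have r := exists_root hk
  set c := u ^ 2 ^ (k + 1)
  set v := u ^ 2 ^ k
  have hav : a * v * a⁻¹ = v⁻¹ := by rw [← conj_pow, hinv, inv_pow]
  have hac : a * c = c * a := by
    have h1 : a * c * a⁻¹ = c := by
      rw [← r.1, show a * (v * v) * a⁻¹ = (a * v * a⁻¹) * (a * v * a⁻¹) by group, hav, ← mul_inv_rev,
        r.1]
      exact inv_eq_of_mul_eq_one_right r.2.1
    exact mul_inv_eq_iff_eq_mul.1 h1
  have hane : a ≠ c := fun e => hne (by
    have hcu : Commute u a := e ▸ Commute.pow_right (Commute.refl u) _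
    have h1 : a * b * a = b := by rw [← hu, hcu.eq, hu, ← mul_assoc, rx.2.1, one_mul]
    calc a * b = a * (a * b * a) := by rw [h1]
      _ = b * a := by rw [← mul_assoc, ← mul_assoc, rx.2.1, one_mul])
  have hxv : Commute x v := commute_of_squares hP hT rx r hane hac
  have hav' : Commute a v := rx.1 ▸ hxv.mul_left hxv
  rw [hav'.eq, mul_inv_cancel_right] at hav
  have h2 : v * v = 1 := by nth_rw 1 [hav]; exact inv_mul_cancel v
  rw [r.1] at h2
  exact r.2.2 h2

include hP hT in
/-- With two squares all elements of order four commute. -/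
theorem roots_commute (h2 : ∃ a b x y : P, Root a x ∧ Root b y ∧ a ≠ b) {a b x y : P}
    (rx : Root a x) (ry : Root b y) : x * y = y * x := by
  rcases eq_or_ne a b with rfl | hab
  swap
  · exact commute_of_squares hP hT rx ry hab (squares_commute hP hT rx ry)
  obtain ⟨c, w, rw', hca⟩ : ∃ c w : P, Root c w ∧ c ≠ a := by
    obtain ⟨a₁, b₁, x₁, y₁, r1, r2, hne⟩ := h2
    rcases eq_or_ne a₁ a with e | e
    · exact ⟨b₁, y₁, r2, fun e' => hne (e.trans e'.symm)⟩
    · exact ⟨a₁, x₁, r1, e⟩
  have hxw : Commute x w := commute_of_squares hP hT rx rw' hca.symm (squares_commute hP hT rx rw')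
  have hyw : Commute y w := commute_of_squares hP hT ry rw' hca.symm (squares_commute hP hT ry rw')
  rcases rx.cases hT ry.comm_sq.eq with e | e
  · exact (mul_inv_eq_iff_eq_mul.1 e).symm
  exfalso
  have hcy : Commute y c := rw'.1 ▸ hyw.mul_right hyw
  have hxw2 : x * w * (x * w) = a * c := by rw [hxw.symm.mul_mul_mul_comm, rx.1, rw'.1]
  have r3 : Root (a * c) (x * w) := ⟨hxw2, by
    rw [(show Commute a c from squares_commute hP hT rx rw').symm.mul_mul_mul_comm, rx.2.1, rw'.2.1, one_mul],
    fun e' => hca (by rw [eq_inv_of_mul_eq_one_right e', inv_eq_of_mul_eq_one_right rx.2.1])⟩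
  have hcw : y * w * y⁻¹ = w := by rw [hyw.eq, mul_inv_cancel_right]
  rcases r3.cases hT (ry.comm_sq.mul_right hcy).eq with e3 | e3 <;>
    rw [show y * (x * w) * y⁻¹ = (y * x * y⁻¹) * (y * w * y⁻¹) by group, e, hcw] at e3
  · have h1 := mul_right_cancel e3
    exact rx.2.2 (by rw [← rx.1]; nth_rw 1 [← h1]; exact inv_mul_cancel x)
  · rw [mul_inv_rev, ← (hxw.inv_inv).eq] at e3
    have h1 := mul_left_cancel e3
    exact rw'.2.2 (by rw [← rw'.1]; nth_rw 1 [h1]; exact inv_mul_cancel w)

include hP hT in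
/-- An element of order above two centralises all elements of order four. -/
theorem commute_of_sq_ne (h2 : ∃ a b x y : P, Root a x ∧ Root b y ∧ a ≠ b) {s : P} (hs : s * s ≠ 1)
    {a x : P} (rx : Root a x) : s * x = x * s := by
  obtain ⟨k, hk⟩ := exists_order (hP s) hs
  have r := exists_root hk
  set ω := s ^ 2 ^ (k + 1)
  set v := s ^ 2 ^ k
  suffices key : ∀ {a x : P}, Root a x → a ≠ ω → s * x = x * s by
    rcases eq_or_ne a ω with rfl | hne
    · obtain ⟨c, w, rw', hca⟩ : ∃ c w : P, Root c w ∧ c ≠ ω := by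
        obtain ⟨a₁, b₁, x₁, y₁, r1, r2, hne⟩ := h2
        rcases eq_or_ne a₁ ω with e | e
        · exact ⟨b₁, y₁, r2, fun e' => hne (e.trans e'.symm)⟩
        · exact ⟨a₁, x₁, r1, e⟩
      have hxw : Commute x w := roots_commute hP hT h2 rx rw'
      have r3 : Root (ω * c) (x * w) := ⟨by rw [hxw.symm.mul_mul_mul_comm, rx.1, rw'.1], by
        rw [(show Commute ω c from squares_commute hP hT rx rw').symm.mul_mul_mul_comm, rx.2.1, rw'.2.1,
          one_mul],
        fun e' => hca (by rw [eq_inv_of_mul_eq_one_right e', inv_eq_of_mul_eq_one_right rx.2.1])⟩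
      have h3 : Commute s (x * w) := key r3 (fun e => rw'.2.2 (mul_eq_left.1 e))
      have h4 : Commute s w := key rw' hca
      have := h3.mul_right h4.inv_right
      rwa [mul_inv_cancel_right] at this
    · exact key rx hne
  intro a x rx hne
  -- `x` normalises `⟨s⟩`
  have hxv : Commute x v := roots_commute hP hT h2 rx r
  have hxω : Commute x ω := r.1 ▸ hxv.mul_right hxv
  have hmem := hT s x (hP s) ω (pow_mem (mem_zpowers s) _) r.2.2 hxω.eq
  obtain ⟨i, hi⟩ := mem_zpowers_iff.1 hmem
  set c := x * s * x⁻¹ * s⁻¹ with hc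
  have hcs : Commute c s := by
    rw [hc, ← hi]
    exact ((Commute.refl s).zpow_left i).mul_left ((Commute.refl s).inv_left)
  have hsx : s * x * s⁻¹ = c⁻¹ * x := by rw [hc]; group
  have rx' := rx.conj s
  have hcx : Commute c x := by
    have h1 : Commute (s * x * s⁻¹) x := roots_commute hP hT h2 rx' rx
    have e : c = x * (s * x * s⁻¹)⁻¹ := by rw [hc]; group
    rw [e]
    exact (Commute.refl x).mul_left h1.inv_left
  have hc4 : c ^ 4 = 1 := by
    have e : c = x * (s * x * s⁻¹)⁻¹ := by rw [hc]; group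
    rw [e, (show Commute x (s * x * s⁻¹)⁻¹ from
      (show Commute (s * x * s⁻¹) x from roots_commute hP hT h2 rx' rx).symm.inv_right).mul_pow,
      inv_pow, conj_pow, show x ^ 4 = 1 from rx.orderOf ▸ pow_orderOf_eq_one x]
    group
  have ha' : s * a * s⁻¹ = c⁻¹ ^ 2 * a := by
    rw [← rx'.1, hsx, hcx.inv_left.symm.mul_mul_mul_comm, rx.1, pow_two]
  have hc2 : c ^ 2 = 1 := by
    -- `s²` fixes `a`
    have hsc : s * c⁻¹ * s⁻¹ = c⁻¹ := by rw [hcs.inv_left.symm.eq, mul_inv_cancel_right]
    have h2a : s * s * a = a * (s * s) := by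
      rw [← mul_inv_eq_iff_eq_mul, show s * s * a * (s * s)⁻¹ = s * (s * a * s⁻¹) * s⁻¹ by group, ha',
        show s * (c⁻¹ ^ 2 * a) * s⁻¹ = (s * c⁻¹ * s⁻¹) * (s * c⁻¹ * s⁻¹) * (s * a * s⁻¹) by
          rw [pow_two]; group, hsc, ha', ← mul_assoc, ← pow_two, ← pow_add, inv_pow, hc4, inv_one, one_mul]
    have e2 : s * s * x * (s * s)⁻¹ = c⁻¹ ^ 2 * x := by
      rw [show s * s * x * (s * s)⁻¹ = s * (s * x * s⁻¹) * s⁻¹ by group, hsx,
        show s * (c⁻¹ * x) * s⁻¹ = (s * c⁻¹ * s⁻¹) * (s * x * s⁻¹) by group, hsc, hsx, pow_two, mul_assoc]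
    rcases rx.cases hT h2a with e | e <;> rw [e2] at e
    · rw [mul_eq_right, inv_pow, inv_eq_one] at e; exact e
    · exfalso
      have : c⁻¹ ^ 2 = a := by
        rw [eq_mul_inv_of_mul_eq e, ← mul_inv_rev, rx.1, inv_eq_of_mul_eq_one_right rx.2.1]
      rw [this, rx.2.1] at ha'
      exact rx.2.2 (conj_eq_one_iff.1 ha')
  rw [inv_pow, hc2, inv_one, one_mul] at ha'
  rcases rx.cases hT (mul_inv_eq_iff_eq_mul.1 ha') with e | e
  · exact mul_inv_eq_iff_eq_mul.1 e
  · exfalso
    rw [hsx] at e
    have hca : c = a := by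
      have h1 : c⁻¹ = a⁻¹ := by rw [eq_mul_inv_of_mul_eq e, ← mul_inv_rev, rx.1]
      exact inv_injective h1
    -- the only involution of `⟨s⟩` is `ω`
    refine hne ?_
    have hmem' : c ∈ zpowers s := by rw [hc, ← hi]; exact mul_mem (zpow_mem (mem_zpowers s) i) (inv_mem (mem_zpowers s))
    rw [hca] at hmem'
    obtain ⟨j, hj⟩ := (Submonoid.mem_powers_iff a s).1
      (((orderOf_pos_iff.1 (by rw [hk]; positivity)).mem_powers_iff_mem_zpowers).2 hmem')
    have hj2 : 2 ^ (k + 2) ∣ j * 2 := hk ▸ orderOf_dvd_of_pow_eq_one (by rw [pow_mul, hj, pow_two, rx.2.1])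
    rw [pow_succ] at hj2
    obtain ⟨m, rfl⟩ := Nat.dvd_of_mul_dvd_mul_right two_pos hj2
    have hj' : ω ^ m = a := by rw [← hj, pow_mul]
    rcases Nat.even_or_odd m with ⟨i', rfl⟩ | ⟨i', rfl⟩
    · rw [pow_add, ← (Commute.refl ω).mul_pow, r.2.1, one_pow] at hj'
      exact absurd hj'.symm rx.2.2
    · rw [pow_succ, pow_mul, pow_two, r.2.1, one_pow, one_mul] at hj'
      exact hj'.symm

/-- The elements centralising all elements of order four. -/
def rootCent (P : Type*) [Group P] : Subgroup P :=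
  centralizer {x | ∃ a, Root a x}

theorem mem_rootCent {g : P} : g ∈ rootCent P ↔ ∀ a x : P, Root a x → g * x = x * g := by
  simp only [rootCent, mem_centralizer_iff, Set.mem_ofPred_eq]
  exact ⟨fun h a x r => (h x ⟨a, r⟩).symm, fun h x ⟨a, r⟩ => (h a x r).symm⟩

include hP hT in
/-- Outside `rootCent` there are only involutions inverting all elements of order four. -/
theorem inverts_root (h2 : ∃ a b x y : P, Root a x ∧ Root b y ∧ a ≠ b) {s : P} (hs : s ∉ rootCent P)
    {a x : P} (rx : Root a x) : s * x * s⁻¹ = x⁻¹ := by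
  have hss : s * s = 1 := by_contra fun h => hs (mem_rootCent.2 fun a x r => commute_of_sq_ne hP hT h2 h r)
  have key : ∀ {a x : P}, Root a x → s * x = x * s ∨ s * x * s⁻¹ = x⁻¹ := by
    intro a x r
    by_cases h : s * x * (s * x) = 1
    · refine Or.inr (eq_inv_of_mul_eq_one_left ?_)
      rw [inv_eq_of_mul_eq_one_right hss, mul_assoc (s * x)]
      exact h
    · have := commute_of_sq_ne hP hT h2 h r
      exact Or.inl (mul_right_cancel (this.trans (mul_assoc x s x).symm))
  refine (key rx).resolve_left fun hsx => hs (mem_rootCent.2 fun b y ry => ?_)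
  refine (key ry).resolve_right fun hy => ?_
  have hsx' : s * x * s⁻¹ = x := by rw [hsx, mul_inv_cancel_right]
  have hxy : Commute x y := roots_commute hP hT h2 rx ry
  rcases eq_or_ne a b with rfl | hne
  · -- compare with a third square
    obtain ⟨c, w, rw', hca⟩ : ∃ c w : P, Root c w ∧ c ≠ a := by
      obtain ⟨a₁, b₁, x₁, y₁, r1, r2, hne⟩ := h2
      rcases eq_or_ne a₁ a with e | e
      · exact ⟨b₁, y₁, r2, fun e' => hne (e.trans e'.symm)⟩
      · exact ⟨a₁, x₁, r1, e⟩
    have main : ∀ {a x b y : P}, Root a x → Root b y → a ≠ b → s * x * s⁻¹ = x →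
        s * y * s⁻¹ = y⁻¹ → False := by
      intro a x b y rx ry hne hx hy
      have hxy : Commute x y := roots_commute hP hT h2 rx ry
      have r3 : Root (a * b) (x * y) := ⟨by rw [hxy.symm.mul_mul_mul_comm, rx.1, ry.1], by
        rw [(show Commute a b from squares_commute hP hT rx ry).symm.mul_mul_mul_comm, rx.2.1, ry.2.1,
          one_mul], fun e => hne (by rw [eq_inv_of_mul_eq_one_left e, inv_eq_of_mul_eq_one_right ry.2.1])⟩
      have e3 : s * (x * y) * s⁻¹ = x * y⁻¹ := by
        rw [show s * (x * y) * s⁻¹ = (s * x * s⁻¹) * (s * y * s⁻¹) by group, hx, hy]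
      rcases key r3 with h | h
      · rw [h, mul_inv_cancel_right] at e3
        exact ry.2.2 (by rw [← ry.1]; nth_rw 1 [mul_left_cancel e3]; exact inv_mul_cancel y)
      · rw [e3, mul_inv_rev, ← hxy.inv_inv.eq] at h
        have h1 := mul_right_cancel h
        exact rx.2.2 (by rw [← rx.1]; nth_rw 1 [h1]; exact inv_mul_cancel x)
    rcases key rw' with hw | hw
    · exact main rw' ry hca (by rw [hw, mul_inv_cancel_right]) hy
    · exact main rx rw' hca.symm hsx' hw
  · have r3 : Root (a * b) (x * y) := ⟨by rw [hxy.symm.mul_mul_mul_comm, rx.1, ry.1], by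
      rw [(show Commute a b from squares_commute hP hT rx ry).symm.mul_mul_mul_comm, rx.2.1, ry.2.1,
        one_mul], fun e => hne (by rw [eq_inv_of_mul_eq_one_left e, inv_eq_of_mul_eq_one_right ry.2.1])⟩
    have e3 : s * (x * y) * s⁻¹ = x * y⁻¹ := by
      rw [show s * (x * y) * s⁻¹ = (s * x * s⁻¹) * (s * y * s⁻¹) by group, hsx', hy]
    rcases key r3 with h | h
    · rw [h, mul_inv_cancel_right] at e3
      exact ry.2.2 (by rw [← ry.1]; nth_rw 1 [mul_left_cancel e3]; exact inv_mul_cancel y)
    · rw [e3, mul_inv_rev, ← hxy.inv_inv.eq] at h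
      have h1 := mul_right_cancel h
      exact rx.2.2 (by rw [← rx.1]; nth_rw 1 [h1]; exact inv_mul_cancel x)

/-- The commutator of two elements that it centralises, in powers. -/
theorem pow_mul_pow {g h c : P} (hg : Commute c g) (hh : Commute c h) (e : g * h = c * h * g) (k : ℕ) :
    (h * g) ^ k = h ^ k * g ^ k * c ^ k.choose 2 := by
  have hpow : ∀ j : ℕ, g ^ j * h = c ^ j * h * g ^ j := by
    intro j
    induction j with
    | zero => simp
    | succ j ih =>
      calc g ^ (j + 1) * h = g ^ j * (g * h) := by rw [pow_succ, mul_assoc]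
        _ = g ^ j * c * h * g := by rw [e]; simp only [mul_assoc]
        _ = c * (g ^ j * h) * g := by rw [← (hg.pow_right j).eq]; simp only [mul_assoc]
        _ = c ^ (j + 1) * h * g ^ (j + 1) := by rw [ih, pow_succ' c, pow_succ g]; simp only [mul_assoc]
  induction k with
  | zero => simp
  | succ k ih =>
    have hcg : ∀ i j : ℕ, c ^ i * g ^ j = g ^ j * c ^ i := fun i j => ((hg.pow_pow i j)).eq
    have hch : ∀ i j : ℕ, c ^ i * h ^ j = h ^ j * c ^ i := fun i j => ((hh.pow_pow i j)).eq
    rw [Nat.choose_succ_succ', Nat.choose_one_right]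
    calc (h * g) ^ (k + 1) = h ^ k * g ^ k * c ^ k.choose 2 * (h * g) := by rw [pow_succ, ih]
      _ = h ^ k * (g ^ k * h) * (c ^ k.choose 2 * g) := by
          rw [← mul_assoc, mul_assoc (h ^ k * g ^ k), (hh.pow_left _).eq]
          simp only [mul_assoc]
      _ = h ^ k * (c ^ k * h) * g ^ k * (g * c ^ k.choose 2) := by
          rw [hpow, (hg.pow_left _).eq]; simp only [mul_assoc]
      _ = h ^ (k + 1) * c ^ k * (g ^ k * g) * c ^ k.choose 2 := by
          rw [(hh.pow_left k).eq, pow_succ h]; simp only [mul_assoc]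
      _ = h ^ (k + 1) * g ^ (k + 1) * (c ^ k * c ^ k.choose 2) := by
          rw [← pow_succ g, mul_assoc (h ^ (k + 1)), hcg]; simp only [mul_assoc]
      _ = _ := by rw [← pow_add]

include hP hT in
/-- `rootCent` is commutative. -/
theorem rootCent_comm [Finite P] (h2 : ∃ a b x y : P, Root a x ∧ Root b y ∧ a ≠ b) :
    ∀ g ∈ rootCent P, ∀ h ∈ rootCent P, g * h = h * g := by
  classical
  have hroot : ∀ {a x : P}, Root a x → x ∈ rootCent P :=
    fun r => mem_rootCent.2 fun _ _ r' => roots_commute hP hT h2 r r'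
  -- elements of order at most four are central
  have hsmall : ∀ g ∈ rootCent P, ∀ h ∈ rootCent P, h ^ 4 = 1 → g * h = h * g := by
    intro g hg h hh h4
    by_cases hinv : h * h = 1
    · by_cases h1 : h = 1
      · rw [h1, mul_one, one_mul]
      obtain ⟨a, b, x, y, rx, -, -⟩ := h2
      have hxh : Commute x h := ((mem_rootCent.1 hh) a x rx).symm
      have r' : Root a (x * h) :=
        ⟨by rw [hxh.symm.mul_mul_mul_comm, rx.1, hinv, mul_one], rx.2.1, rx.2.2⟩
      have e1 : Commute g (x * h) := (mem_rootCent.1 hg) a _ r'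
      have e2 : Commute g x := (mem_rootCent.1 hg) a x rx
      have := e2.inv_right.mul_right e1
      rwa [inv_mul_cancel_left] at this
    · refine (mem_rootCent.1 hg) _ h ⟨rfl, ?_, hinv⟩
      rw [← h4, show (4 : ℕ) = 2 + 2 by norm_num, pow_add, pow_two]
  suffices ∀ n, ∀ g ∈ rootCent P, ∀ h ∈ rootCent P, orderOf g + orderOf h = n → g * h = h * g from
    fun g hg h hh => this _ g hg h hh rfl
  intro n
  induction n using Nat.strong_induction_on with
  | _ n ih =>
    intro g hg h hh hn
    wlog hle : orderOf h ≤ orderOf g generalizing g h with H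
    · exact (H h hh g hg (by omega) (by omega)).symm
    by_cases h4 : h ^ 4 = 1
    · exact hsmall g hg h hh h4
    obtain ⟨N, hN⟩ := exists_order (hP h) (fun e => h4 (by
      rw [show (4 : ℕ) = 2 + 2 by norm_num, pow_add, pow_two, e, one_mul]))
    obtain ⟨M, hM⟩ := exists_order (hP g) (fun e => by
      have := Nat.le_of_dvd two_pos (orderOf_dvd_of_pow_eq_one (n := 2) (by rw [pow_two, e]) : orderOf g ∣ 2)
      rw [hN] at hle
      have : 4 ≤ 2 ^ (N + 2) := by
        calc 4 = 2 ^ 2 := rfl
          _ ≤ _ := Nat.pow_le_pow_right two_pos (by omega)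
      omega)
    have rh := exists_root hN
    have rg := exists_root hM
    -- each normalises the other
    have cgh : ∀ {g h : P} {k : ℕ}, g ∈ rootCent P → orderOf h = 2 ^ (k + 2) →
        g * h * g⁻¹ ∈ zpowers h := fun {g h k} hg hk => by
      have r := exists_root hk
      have hc : Commute g (h ^ 2 ^ k) := (mem_rootCent.1 hg) _ _ r
      exact hT h g (hP h) _ (pow_mem (mem_zpowers h) _) r.2.2 (r.1 ▸ hc.mul_right hc).eq
    set c := g * h * g⁻¹ * h⁻¹ with hc
    have hch : c ∈ zpowers h := mul_mem (cgh hg hN) (inv_mem (mem_zpowers h))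
    have hcg : c ∈ zpowers g := by
      rw [show c = g * (h * g⁻¹ * h⁻¹) by rw [hc]; group]
      refine mul_mem (mem_zpowers g) ?_
      rw [show h * g⁻¹ * h⁻¹ = (h * g * h⁻¹)⁻¹ by group]
      exact inv_mem (cgh hh hM)
    obtain ⟨i₁, hi₁⟩ := mem_zpowers_iff.1 hch
    obtain ⟨i₂, hi₂⟩ := mem_zpowers_iff.1 hcg
    have hc1 : Commute c h := hi₁ ▸ (Commute.refl h).zpow_left i₁
    have hc2 : Commute c g := hi₂ ▸ (Commute.refl g).zpow_left i₂
    have hrel : g * h = c * h * g := by rw [hc]; group
    -- the least power of `h` in `⟨g⟩`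
    have hex : ∃ u, h ^ 2 ^ u ∈ zpowers g := ⟨N + 2, by rw [← hN, pow_orderOf_eq_one]; exact one_mem _⟩
    set u := Nat.find hex
    have hu : h ^ 2 ^ u ∈ zpowers g := Nat.find_spec hex
    by_cases hu0 : u = 0
    · rw [hu0, pow_zero, pow_one] at hu
      obtain ⟨j, hj⟩ := mem_zpowers_iff.1 hu
      rw [← hj]; exact ((Commute.refl g).zpow_right j).eq
    by_cases huN : N + 2 ≤ u
    · -- the subgroups intersect trivially
      have hc0 : c = 1 := by
        by_contra hcne
        refine Nat.find_min hex (show N + 1 < u by omega) ?_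
        obtain ⟨j, hj⟩ := (Submonoid.mem_powers_iff c h).1
          ((isOfFinOrder_of_finite h).mem_powers_iff_mem_zpowers.2 hch)
        obtain ⟨e, he, hje⟩ : ∃ e, e ≤ N + 1 ∧ ∃ o, ¬ 2 ∣ o ∧ j = 2 ^ e * o := by
          have hj0 : j ≠ 0 := fun e => hcne (by rw [← hj, e, pow_zero])
          obtain ⟨e, o, ho, rfl⟩ := Nat.exists_eq_pow_mul_and_not_dvd hj0 2 (by norm_num)
          refine ⟨e, ?_, o, ho, rfl⟩
          by_contra hlt
          exact hcne (by
            rw [← hj, pow_mul, orderOf_dvd_iff_pow_eq_one.1 (show orderOf h ∣ 2 ^ e by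
              rw [hN]; exact Nat.pow_dvd_pow 2 (by omega)), one_pow])
        obtain ⟨o, ho, rfl⟩ := hje
        have hpow : c ^ 2 ^ (N + 1 - e) = h ^ 2 ^ (N + 1) := by
          rw [← hj, ← pow_mul, show 2 ^ e * o * 2 ^ (N + 1 - e) = 2 ^ (N + 1) * o by
            rw [mul_right_comm, ← pow_add, Nat.add_sub_cancel' he]]
          obtain ⟨i, rfl⟩ := Nat.odd_iff.2 (Nat.two_dvd_ne_zero.1 ho)
          rw [pow_mul, pow_succ, pow_mul, pow_two, rh.2.1, one_pow, one_mul]
        rw [← hpow]; exact pow_mem hcg _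
      rw [hc0, one_mul] at hrel
      exact hrel
    push Not at huN
    obtain ⟨j, hj⟩ := (Submonoid.mem_powers_iff _ g).1
      ((isOfFinOrder_of_finite g).mem_powers_iff_mem_zpowers.2 hu)
    -- `2 ^ u ∣ j`
    obtain ⟨l, rfl⟩ : 2 ^ u ∣ j := by
      have h1 : g ^ (j * 2 ^ (N + 2 - u)) = 1 := by
        rw [pow_mul, hj, ← pow_mul, ← pow_add, Nat.add_sub_cancel' huN.le, ← hN, pow_orderOf_eq_one]
      have h2' : 2 ^ (M + 2) ∣ j * 2 ^ (N + 2 - u) := hM ▸ orderOf_dvd_of_pow_eq_one h1
      have hNM : N ≤ M := by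
        rw [hN, hM] at hle
        have := (Nat.pow_le_pow_iff_right (by norm_num : 1 < 2)).1 hle
        omega
      have h3 : 2 ^ u * 2 ^ (N + 2 - u) ∣ j * 2 ^ (N + 2 - u) := by
        rw [← pow_add, Nat.add_sub_cancel' huN.le]
        exact (Nat.pow_dvd_pow 2 (by omega)).trans h2'
      exact Nat.dvd_of_mul_dvd_mul_right (by positivity) h3
    -- `c ^ 2 ^ u = 1`
    have hcu : c ^ 2 ^ u = 1 := by
      have h1 : g * h ^ 2 ^ u * g⁻¹ = h ^ 2 ^ u := by
        rw [← hj, ← pow_succ', pow_succ, mul_inv_cancel_right]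
      rw [← conj_pow, show g * h * g⁻¹ = c * h by rw [hc]; group, hc1.mul_pow] at h1
      exact mul_eq_right.1 h1
    set h' := h * (g ^ l)⁻¹ with hh'
    have hh'mem : h' ∈ rootCent P := mul_mem hh (inv_mem (pow_mem hg l))
    have hcl : Commute c (g ^ l)⁻¹ := (hc2.pow_right l).inv_right
    have hrel' : (g ^ l)⁻¹ * h = (c ^ l)⁻¹ * h * (g ^ l)⁻¹ := by
      have hgl : g ^ l * h = c ^ l * h * g ^ l := by
        clear hh' hh'mem hcl hcu hj hu
        induction l with
        | zero => simp
        | succ j ih =>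
          calc g ^ (j + 1) * h = g ^ j * (g * h) := by rw [pow_succ, mul_assoc]
            _ = g ^ j * c * h * g := by rw [hrel]; simp only [mul_assoc]
            _ = c * (g ^ j * h) * g := by rw [← (hc2.pow_right j).eq]; simp only [mul_assoc]
            _ = c ^ (j + 1) * h * g ^ (j + 1) := by rw [ih, pow_succ' c, pow_succ g]; simp only [mul_assoc]
      have hcc : Commute (c ^ l) (g ^ l) := hc2.pow_pow l l
      calc (g ^ l)⁻¹ * h = (g ^ l)⁻¹ * ((c ^ l)⁻¹ * (g ^ l * h) * (g ^ l)⁻¹) := by rw [hgl]; group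
        _ = (g ^ l)⁻¹ * (c ^ l)⁻¹ * g ^ l * h * (g ^ l)⁻¹ := by group
        _ = _ := by rw [(hcc.inv_inv).symm.eq, inv_mul_cancel_right]
    have hpow := pow_mul_pow (c := (c ^ l)⁻¹) (g := (g ^ l)⁻¹) (h := h)
      ((hcl.pow_left l).inv_left) ((hc1.pow_left l).inv_left) hrel' (2 ^ u)
    rw [inv_pow, ← pow_mul g, mul_comm l, hj, mul_inv_cancel, one_mul, ← hh'] at hpow
    -- the order drops
    have hlt : orderOf h' < orderOf h := by
      rw [hN]
      by_cases hu2 : u + 1 < N + 2
      · refine lt_of_le_of_lt (Nat.le_of_dvd (by positivity) (orderOf_dvd_of_pow_eq_one ?_))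
          (Nat.pow_lt_pow_right (by norm_num) hu2)
        rw [pow_succ, pow_mul, hpow, inv_pow, inv_pow, inv_eq_one, ← pow_mul, ← pow_mul]
        obtain ⟨i, hi⟩ : 2 ^ u ∣ l * (2 ^ u).choose 2 * 2 := by
          have hch2 : (2 ^ u).choose 2 * 2 = 2 ^ u * (2 ^ u - 1) := by
            rw [Nat.choose_two_right]
            exact Nat.div_mul_cancel (Nat.even_mul_pred_self _).two_dvd
          rw [mul_assoc, hch2]
          exact ⟨l * (2 ^ u - 1), by ring⟩
        rw [← mul_assoc, hi, pow_mul, hcu, one_pow]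
      · have hu' : u = N + 1 := by omega
        refine lt_of_le_of_lt (Nat.le_of_dvd (by positivity) (orderOf_dvd_of_pow_eq_one ?_))
          (Nat.pow_lt_pow_right (by norm_num) huN)
        rw [hpow]
        -- `c` is the involution of `⟨h⟩` or trivial
        have hcc : c * c = 1 := by
          obtain ⟨i, hi⟩ := (Submonoid.mem_powers_iff c h).1
            ((isOfFinOrder_of_finite h).mem_powers_iff_mem_zpowers.2 hch)
          rcases Nat.eq_zero_or_pos i with rfl | hi0
          · rw [← hi, pow_zero, one_mul]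
          obtain ⟨e, o, ho, rfl⟩ := Nat.exists_eq_pow_mul_and_not_dvd hi0.ne' 2 (by norm_num)
          have he : N + 1 ≤ e := by
            by_contra hlt
            refine Nat.find_min hex (show e < u by omega) ?_
            obtain ⟨m, hm⟩ := exists_odd_pow hP (h ^ 2 ^ e) ho
            have hce : c ^ m = h ^ 2 ^ e := by rw [← hi, pow_mul, hm]
            rw [← hce]; exact pow_mem hcg m
          rw [← hi, ← pow_add, ← two_mul]
          refine orderOf_dvd_iff_pow_eq_one.1 (hN ▸ ?_)
          exact dvd_mul_of_dvd_left (Nat.pow_dvd_pow 2 (by omega : N + 2 ≤ e + 1)) o |>.trans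
            (dvd_of_eq (by ring))
        have heven : 2 ∣ (2 ^ u).choose 2 := by
          refine Nat.dvd_of_mul_dvd_mul_right two_pos ?_
          rw [Nat.choose_two_right, Nat.div_mul_cancel (Nat.even_mul_pred_self _).two_dvd, hu']
          refine dvd_mul_of_dvd_left ?_ _
          have hN0 : N ≠ 0 := fun e0 => h4 (by
            rw [← show orderOf h = 4 by rw [hN, e0]; norm_num]; exact pow_orderOf_eq_one h)
          exact (Nat.pow_dvd_pow 2 (show 2 ≤ N + 1 by omega))
        obtain ⟨i, hi⟩ := heven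
        rw [inv_pow, inv_eq_one, ← pow_mul, hi, show l * (2 * i) = 2 * (l * i) by ring, pow_mul, pow_two,
          hcc, one_pow]
    have hrec : g * h' = h' * g := ih (orderOf g + orderOf h') (by omega) g hg h' hh'mem rfl
    have := (show Commute g h' from hrec).mul_right ((Commute.refl g).pow_right l)
    rw [hh', inv_mul_cancel_right] at this
    exact this

include hP hT in
/-- The structure: `rootCent` commutative, everything outside inverts it. -/
theorem structure_two [Finite P] (h2 : ∃ a b x y : P, Root a x ∧ Root b y ∧ a ≠ b) {s : P}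
    (hs : s ∉ rootCent P) : s * s = 1 ∧ ∀ g ∈ rootCent P, s * g * s⁻¹ = g⁻¹ := by
  have hsq : ∀ w : P, w ∉ rootCent P → w * w = 1 := fun w hw =>
    by_contra fun h => hw (mem_rootCent.2 fun a x r => commute_of_sq_ne hP hT h2 h r)
  refine ⟨hsq s hs, fun g hg => eq_inv_of_mul_eq_one_left ?_⟩
  rw [inv_eq_of_mul_eq_one_right (hsq s hs), mul_assoc (s * g)]
  exact hsq _ fun h => hs ((mul_mem_cancel_right hg).1 h)

include hP hT in
/-- The product of two elements outside lies inside. -/
theorem mul_mem_rootCent (h2 : ∃ a b x y : P, Root a x ∧ Root b y ∧ a ≠ b) {s w : P}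
    (hs : s ∉ rootCent P) (hw : w ∉ rootCent P) : s * w ∈ rootCent P := by
  refine mem_rootCent.2 fun a x r => mul_inv_eq_iff_eq_mul.1 ?_
  rw [show s * w * x * (s * w)⁻¹ = s * (w * x * w⁻¹) * s⁻¹ by group, inverts_root hP hT h2 hw r,
    inverts_root hP hT h2 hs r.inv, inv_inv]

end Cfsg.Agent.Lib.TICyclic68
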